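import Groth.Agent.EGA43Desc.Reduction
import Mathlib

/-!
# An affine chart at a point for flatness over a local base
-/

set_option autoImplicit false
set_option linter.style.haveILetI false
universe u

open CategoryTheory CategoryTheory.Limits AlgebraicGeometry TensorProduct IsLocalRing

namespace Groth.EGA43Desc

/-- Flatness of the stalk map of a morphism of affine schemes. -/
theorem flat_stalkMap_spec_iff {R S : Type u} [CommRing R] [CommRing S] [Algebra R S]
    (p : PrimeSpectrum S) :
    ((Spec.map (CommRingCat.ofHom (algebraMap R S))).stalkMap p).hom.Flat ↔ FlatCA.FlatAt R p.asIdeal S := by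
  haveI := RingHom.toMorphismProperty_respectsIso_iff.mp RingHom.Flat.respectsIso.{u}
  let f : CommRingCat.of R ⟶ CommRingCat.of S := CommRingCat.ofHom (algebraMap R S)
  refine ((RingHom.toMorphismProperty fun {R} {S} [CommRing R] [CommRing S] (f : R →+* S) => f.Flat).arrow_mk_iso_iff
    (Scheme.arrowStalkMapSpecIso f p)).trans ?_
  let r := (p.asIdeal).comap (algebraMap R S)
  let Rr := Localization.AtPrime r
  let Sq := Localization.AtPrime p.asIdeal
  letI : Algebra Rr Sq := (Localization.localRingHom r p.asIdeal (algebraMap R S) rfl).toAlgebra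
  haveI : IsScalarTower R Rr Sq := .of_algebraMap_eq fun a => by
    rw [RingHom.algebraMap_toAlgebra, Localization.localRingHom_to_map]
    exact IsScalarTower.algebraMap_apply R S Sq a
  show (algebraMap Rr Sq).Flat ↔ _
  rw [RingHom.flat_algebraMap_iff, Module.flat_iff_of_isLocalization Rr r.primeCompl Sq]
  exact (Module.Flat.equiv_iff ((IsLocalizedModule.iso p.asIdeal.primeCompl (Algebra.linearMap S Sq)).restrictScalars R)).symm

/-- A morphism agreeing with a second one after an open immersion has the same stalks there. -/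
theorem flat_stalkMap_comp_iff {X Y Z : Scheme.{u}} (g : X ⟶ Y) [IsOpenImmersion g] (f : Y ⟶ Z) (x : X) :
    ((g ≫ f).stalkMap x).hom.Flat ↔ (f.stalkMap (g x)).hom.Flat := by
  rw [Scheme.Hom.stalkMap_comp]
  haveI := RingHom.toMorphismProperty_respectsIso_iff.mp RingHom.Flat.respectsIso.{u}
  exact MorphismProperty.cancel_right_of_respectsIso (RingHom.toMorphismProperty RingHom.Flat)
    (f.stalkMap (g x)) (g.stalkMap x)

/-- **An affine chart at a point of the closed fibre**, with its base changes. -/
theorem exists_chart {A A' : Type u} [CommRing A] [IsLocalRing A] [CommRing A'] [IsLocalRing A'] [Algebra A A']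
    {X : Scheme.{u}} (f : X ⟶ Spec (CommRingCat.of A)) [LocallyOfFiniteType f] (x : X)
    (hx : f.base x = IsLocalRing.closedPoint A) :
    ∃ (S : Type u) (_ : CommRing S) (_ : Algebra A S) (_ : Algebra.FiniteType A S) (q : Ideal S) (_ : q.IsPrime)
      (_ : q.LiesOver (maximalIdeal A)),
      (FlatCA.FlatAt A q S → (f.stalkMap x).hom.Flat) ∧
      ∃ j : Spec (CommRingCat.of (A' ⊗[A] S)) ⟶ pullback f (Spec.map (CommRingCat.ofHom (algebraMap A A'))),
        (∀ x', (pullback.fst f _).base x' = x → x' ∈ Set.range j) ∧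
        (∀ P : PrimeSpectrum (A' ⊗[A] S),
          ((pullback.fst f _).base (j P) = x ↔
            P.asIdeal.comap (Algebra.TensorProduct.includeRight : S →ₐ[A] A' ⊗[A] S) = q) ∧
          ((pullback.snd f _).base (j P) = IsLocalRing.closedPoint A' ↔
            P.asIdeal.comap (algebraMap A' (A' ⊗[A] S)) = maximalIdeal A') ∧
          (((pullback.snd f (Spec.map (CommRingCat.ofHom (algebraMap A A')))).stalkMap (j P)).hom.Flat ↔
            FlatCA.FlatAt A' P.asIdeal (A' ⊗[A] S))) := by
  obtain ⟨_, ⟨W : X.Opens, hW, rfl⟩, hxW, -⟩ :=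
    X.isBasis_affineOpens.exists_subset_of_mem_open (Set.mem_univ x) isOpen_univ
  let g : Spec Γ(X, W) ⟶ X := hW.fromSpec
  let φ : CommRingCat.of A ⟶ Γ(X, W) := Spec.preimage (g ≫ f)
  letI : Algebra A Γ(X, W) := φ.hom.toAlgebra
  let S : Type u := Γ(X, W)
  let σ := Spec.map (CommRingCat.ofHom (algebraMap A Γ(X, W)))
  let ι := Spec.map (CommRingCat.ofHom (algebraMap A A'))
  have hσ : g ≫ f = σ := (Spec.map_preimage _).symm
  haveI : Algebra.FiniteType A Γ(X, W) := by
    have h1 : LocallyOfFiniteType σ := hσ ▸ inferInstance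
    exact (HasRingHomProperty.Spec_iff (P := @LocallyOfFiniteType)).mp h1
  obtain ⟨p, hp⟩ : x ∈ Set.range g := by rw [hW.range_fromSpec]; exact hxW
  have hfp : σ p = IsLocalRing.closedPoint A := by
    rw [← hσ, Scheme.Hom.comp_apply, hp]; exact hx
  haveI : p.asIdeal.LiesOver (maximalIdeal A) := ⟨(congrArg PrimeSpectrum.asIdeal hfp).symm⟩
  refine ⟨Γ(X, W), inferInstance, inferInstance, inferInstance, p.asIdeal, inferInstance, inferInstance, fun h => ?_, ?_⟩
  · have h1 := (flat_stalkMap_spec_iff (R := A) p).mpr h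
    have h2 : ((g ≫ f).stalkMap p).hom.Flat := by rw [hσ]; exact h1
    rw [flat_stalkMap_comp_iff, hp] at h2
    exact h2
  · let m : pullback σ ι ⟶ pullback f ι :=
      pullback.map _ _ _ _ g (𝟙 _) (𝟙 _) (by rw [Category.comp_id, hσ]) (by simp)
    let e : Spec (CommRingCat.of (A' ⊗[A] Γ(X, W))) ⟶ pullback σ ι :=
      (pullbackSpecIso A A' Γ(X, W)).inv ≫ (pullbackSymmetry _ _).hom
    let j := e ≫ m
    have hje : ∀ P, j P = m (e P) := fun P => Scheme.Hom.comp_apply _ _ _
    have hfst : j ≫ pullback.fst f ι =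
        Spec.map (CommRingCat.ofHom (Algebra.TensorProduct.includeRight : Γ(X, W) →ₐ[A] A' ⊗[A] Γ(X, W)).toRingHom) ≫ g := by
      simp only [j, e, m, Category.assoc, pullback.lift_fst]
      erw [pullbackSymmetry_hom_comp_fst_assoc, pullbackSpecIso_inv_snd_assoc]
      rfl
    have hsnd : j ≫ pullback.snd f ι = Spec.map (CommRingCat.ofHom (algebraMap A' (A' ⊗[A] Γ(X, W)))) := by
      simp only [j, e, m, Category.assoc, pullback.lift_snd, Category.comp_id]
      erw [pullbackSymmetry_hom_comp_snd, pullbackSpecIso_inv_fst']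
    refine ⟨j, fun x' hx' => ?_, fun P => ⟨?_, ?_, ?_⟩⟩
    · have hm : x' ∈ Set.range m := by
        rw [Scheme.Pullback.range_map]
        refine ⟨⟨p, hp.trans hx'.symm⟩, ⟨(pullback.snd f ι) x', rfl⟩⟩
      obtain ⟨z, rfl⟩ := hm
      obtain ⟨P, rfl⟩ : z ∈ Set.range e := by
        have : IsIso e := inferInstance
        exact ⟨(inv e) z, by rw [← Scheme.Hom.comp_apply, IsIso.inv_hom_id]; rfl⟩
      exact ⟨P, hje P⟩
    · rw [← Scheme.Hom.comp_apply, hfst, Scheme.Hom.comp_apply]
      constructor
      · intro h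
        have := g.isOpenEmbedding.injective (h.trans hp.symm)
        exact congrArg PrimeSpectrum.asIdeal this
      · intro h
        have h' : Spec.map (CommRingCat.ofHom (Algebra.TensorProduct.includeRight :
            Γ(X, W) →ₐ[A] A' ⊗[A] Γ(X, W)).toRingHom) P = p := PrimeSpectrum.ext h
        rw [h', hp]
    · rw [← Scheme.Hom.comp_apply, hsnd]
      exact PrimeSpectrum.ext_iff
    · rw [← flat_stalkMap_spec_iff, ← flat_stalkMap_comp_iff j, hsnd]

end Groth.EGA43Desc
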