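import Groth.Agent.EGA43Desc.Henselian
import Groth.Agent.FlatmorThree.FlatAtBaseChange
import Groth.Agent.FlatmorThree.FlatAtDescent
import Mathlib

/-!
# Flatness detected by a jointly injective family of local rings over a henselian flat extension
-/

set_option autoImplicit false
set_option linter.style.haveILetI false
universe u

open TensorProduct IsLocalRing

namespace Groth.EGA43Desc

open Groth.RaynaudGruson Groth.RaynaudGruson.TensorAction

attribute [local instance] TensorAction.tModule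

variable {R : Type u} [CommRing R] {C : Type u} [CommRing C] [Algebra R C]
  {N : Type u} [AddCommGroup N] [Module C N] [Module R N] [IsScalarTower R C N]

attribute [local instance] Algebra.TensorProduct.rightAlgebra in
set_option maxHeartbeats 1600000 in
/-- Flatness at a point of a base change passes to a further base change, computed on tensor products. -/
theorem pred_tensor_of_flatAt {B P T : Type u} [CommRing B] [CommRing P] [CommRing T] [Algebra R B] [Algebra R P]
    [Algebra C P] [Algebra B P] [IsScalarTower R C P] [IsScalarTower R B P] [Algebra.IsPushout R B C P]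
    [Algebra R T] [Algebra B T] [IsScalarTower R B T]
    {MP : Type u} [AddCommGroup MP] [Module P MP] [Module B MP] [IsScalarTower B P MP] [Module C MP]
    [IsScalarTower C P MP] {β : N →ₗ[C] MP} (hβ : IsBaseChange P β) (Q : Ideal (T ⊗[R] C)) [Q.IsPrime]
    (h : ∀ (𝔮 : Ideal P) [𝔮.IsPrime],
      𝔮.comap (algebraMap C P) = Q.comap (Algebra.TensorProduct.includeRight : C →ₐ[R] T ⊗[R] C) →
      FlatCA.FlatAt B 𝔮 MP) :
    FlatPred.Pred T Q.primeCompl (T ⊗[R] N) := by
  let ψ : P →ₐ[R] T ⊗[R] C := Algebra.pushoutDesc P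
    ((Algebra.TensorProduct.includeLeft : T →ₐ[R] T ⊗[R] C).comp (IsScalarTower.toAlgHom R B T))
    Algebra.TensorProduct.includeRight fun _ _ => Commute.all _ _
  letI : Algebra P (T ⊗[R] C) := ψ.toRingHom.toAlgebra
  haveI : IsScalarTower B P (T ⊗[R] C) := .of_algebraMap_eq fun b => by
    show algebraMap B T b ⊗ₜ[R] (1 : C) = ψ (algebraMap B P b)
    simp [ψ, Algebra.pushoutDesc_left]
  haveI : IsScalarTower C P (T ⊗[R] C) := .of_algebraMap_eq fun c => by
    show (1 : T) ⊗ₜ[R] c = ψ (algebraMap C P c)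
    simp [ψ, Algebra.pushoutDesc_right]
  haveI : Algebra.IsPushout R C B P := Algebra.IsPushout.symm inferInstance
  haveI : Algebra.IsPushout R T C (T ⊗[R] C) := inferInstance
  haveI : IsScalarTower R P (T ⊗[R] C) := .of_algebraMap_eq fun x => (ψ.commutes x).symm
  haveI : Algebra.IsPushout B T P (T ⊗[R] C) :=
    (Algebra.IsPushout.comp_iff R B C (T := T) (S' := P) (T' := T ⊗[R] C)).1 inferInstance
  haveI : Algebra.IsPushout B P T (T ⊗[R] C) := Algebra.IsPushout.symm inferInstance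
  letI : Module C (T ⊗[R] N) :=
    Module.compHom _ (Algebra.TensorProduct.includeRight : C →ₐ[R] T ⊗[R] C).toRingHom
  haveI : IsScalarTower C (T ⊗[R] C) (T ⊗[R] N) := IsScalarTower.of_algebraMap_smul fun _ _ => rfl
  letI : Module P (T ⊗[R] N) := Module.compHom _ ψ.toRingHom
  haveI : IsScalarTower P (T ⊗[R] C) (T ⊗[R] N) := IsScalarTower.of_algebraMap_smul fun _ _ => rfl
  haveI : IsScalarTower C P (T ⊗[R] N) := IsScalarTower.of_algebraMap_smul fun c z => by
    rw [← algebraMap_smul (T ⊗[R] C) (algebraMap C P c) z, ← IsScalarTower.algebraMap_apply, algebraMap_smul]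
  let gN : N →ₗ[C] T ⊗[R] N :=
    { toFun := fun m => (1 : T) ⊗ₜ[R] m
      map_add' := tmul_add _
      map_smul' := fun b m => by
        show (1 : T) ⊗ₜ[R] (b • m) = ((1 : T) ⊗ₜ[R] b) • ((1 : T) ⊗ₜ[R] m)
        simp }
  have hgN : IsBaseChange (T ⊗[R] C) gN := isBaseChange_mk gN fun _ => rfl
  obtain ⟨g', hg'⟩ := FlatLocusHensel.exists_lift hβ hgN
  let 𝔮 : Ideal P := Q.comap (algebraMap P (T ⊗[R] C))
  have hq : FlatCA.FlatAt B 𝔮 MP := h 𝔮 (by
    ext c
    show algebraMap P (T ⊗[R] C) (algebraMap C P c) ∈ Q ↔ _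
    rw [← IsScalarTower.algebraMap_apply]
    rfl)
  exact (FlatPred.flatAt_iff Q).mp (Groth.FlatmorThree.flatAt_baseChange g' hg' 𝔮 Q rfl hq)

variable (R C N) in
/-- Cancellation in iterated base changes of the algebra. -/
theorem above_tensor {A1 T : Type u} [CommRing A1] [CommRing T] [Algebra R A1] [Algebra R T] [Algebra A1 T]
    [IsScalarTower R A1 T] {m'' : Ideal T} {q : Ideal C} {q1 : Ideal (A1 ⊗[R] C)}
    (hq1 : q1.comap (Algebra.TensorProduct.includeRight : C →ₐ[R] A1 ⊗[R] C) = q)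
    (h : ∀ (Q : Ideal (T ⊗[R] C)) [Q.IsPrime], Q.comap (algebraMap T (T ⊗[R] C)) = m'' →
      Q.comap (Algebra.TensorProduct.includeRight : C →ₐ[R] T ⊗[R] C) = q →
      FlatPred.Pred T Q.primeCompl (T ⊗[R] N)) :
    Above A1 m'' q1 (A1 ⊗[R] N) := by
  intro Q _ h1 h2
  let e : T ⊗[R] C →ₐ[R] T ⊗[A1] (A1 ⊗[R] C) :=
    Algebra.TensorProduct.lift ((Algebra.TensorProduct.includeLeft : T →ₐ[A1] T ⊗[A1] (A1 ⊗[R] C)).restrictScalars R)
      (((Algebra.TensorProduct.includeRight : A1 ⊗[R] C →ₐ[A1] T ⊗[A1] (A1 ⊗[R] C)).restrictScalars R).comp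
        Algebra.TensorProduct.includeRight) fun _ _ => .all _ _
  let E : T ⊗[R] N ≃ₗ[T] T ⊗[A1] (A1 ⊗[R] N) := (AlgebraTensorModule.cancelBaseChange R A1 T T N).symm
  have hP := h (Q.comap e.toRingHom) (by
    rw [← h1]; ext a
    simp [e, Algebra.TensorProduct.algebraMap_apply, Algebra.TensorProduct.one_def]) (by
    rw [← hq1, ← h2]; ext c
    simp [e])
  letI : Module (T ⊗[R] C) (T ⊗[A1] (A1 ⊗[R] N)) := Module.compHom _ e.toRingHom
  haveI : IsScalarTower T (T ⊗[R] C) (T ⊗[A1] (A1 ⊗[R] N)) := IsScalarTower.of_algebraMap_smul fun a z => by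
    show e (a ⊗ₜ[R] (1 : C)) • z = a • z
    rw [← algebraMap_smul (T ⊗[A1] (A1 ⊗[R] C)) a z]
    simp [e, Algebra.TensorProduct.algebraMap_apply, Algebra.TensorProduct.one_def]
  haveI : SMulCommClass (T ⊗[R] C) (T ⊗[A1] (A1 ⊗[R] C)) (T ⊗[A1] (A1 ⊗[R] N)) :=
    ⟨fun v w z => by show e v • w • z = w • e v • z; exact smul_comm _ _ _⟩
  refine (FlatPred.Pred.of_equiv (M' := T ⊗[A1] (A1 ⊗[R] N)) E.toAddEquiv (fun r z => map_smul E r z) ?_ hP).of_dvd
    fun u hu => ⟨e u, 1, hu, fun z => one_smul _ _⟩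
  intro w z
  show E (w • z) = e w • E z
  induction w with
  | zero => rw [zero_smul, map_zero, map_zero]; exact (zero_smul (T ⊗[A1] (A1 ⊗[R] C)) (E z)).symm
  | add v w hv hw => rw [add_smul, map_add, map_add, add_smul, hv, hw]
  | tmul a c =>
    induction z with
    | zero => rw [smul_zero, map_zero, smul_zero]
    | add x y hx hy => rw [smul_add, map_add, map_add, smul_add, hx, hy]
    | tmul b n =>
      simp [e, E]

attribute [local instance] Algebra.TensorProduct.rightAlgebra in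
set_option maxHeartbeats 1600000 in
/-- **Flatness detected by a jointly injective family of local rings over a henselian extension.** -/
theorem flatAt_of_detect [Algebra.FiniteType R C] [Module.Finite C N] (p : Ideal R) [p.IsPrime]
    (q : Ideal C) [q.IsPrime] [q.LiesOver p]
    (A1 : Type u) [CommRing A1] [HenselianLocalRing A1] [Algebra R A1] [Module.Flat R A1]
    [(maximalIdeal A1).LiesOver p] {ι : Type u} (T : ι → Type u) [∀ i, CommRing (T i)] [∀ i, IsLocalRing (T i)]
    [∀ i, Algebra R (T i)] [∀ i, Algebra A1 (T i)] [∀ i, IsScalarTower R A1 (T i)]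
    [∀ i, IsLocalHom (algebraMap A1 (T i))]
    (hdet : ∀ a : A1, (∀ i, algebraMap A1 (T i) a = 0) → a = 0)
    (h : ∀ (i : ι) (Q : Ideal (T i ⊗[R] C)) [Q.IsPrime], Q.comap (algebraMap (T i) (T i ⊗[R] C)) = maximalIdeal (T i) →
      Q.comap (Algebra.TensorProduct.includeRight : C →ₐ[R] T i ⊗[R] C) = q →
      FlatPred.Pred (T i) Q.primeCompl (T i ⊗[R] N)) :
    FlatCA.FlatAt R q N := by
  obtain ⟨Ω, _, _, ι', φ, hι, hφ⟩ := exists_field_point (A := R) p q (maximalIdeal A1)
  let q1 : Ideal (A1 ⊗[R] C) := pointTensor ι' φ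
  have hq1m : q1.comap (algebraMap A1 (A1 ⊗[R] C)) = maximalIdeal A1 :=
    (pointTensor_liesOver ι' φ _ hφ).over.symm
  have hq1 : q1.comap (Algebra.TensorProduct.includeRight : C →ₐ[R] A1 ⊗[R] C) = q := by
    ext b
    simp [q1, pointTensor, ← hι, RingHom.mem_ker]
  haveI : q1.LiesOver (maximalIdeal A1) := ⟨hq1m.symm⟩
  haveI : Algebra.IsPushout R A1 C (A1 ⊗[R] C) := inferInstance
  haveI : Algebra.IsPushout R C A1 (A1 ⊗[R] C) := Algebra.IsPushout.symm inferInstance
  letI : Module C (A1 ⊗[R] N) :=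
    Module.compHom _ (Algebra.TensorProduct.includeRight : C →ₐ[R] A1 ⊗[R] C).toRingHom
  haveI : IsScalarTower C (A1 ⊗[R] C) (A1 ⊗[R] N) := IsScalarTower.of_algebraMap_smul fun _ _ => rfl
  let gN : N →ₗ[C] A1 ⊗[R] N :=
    { toFun := fun m => (1 : A1) ⊗ₜ[R] m
      map_add' := tmul_add _
      map_smul' := fun b m => by
        show (1 : A1) ⊗ₜ[R] (b • m) = ((1 : A1) ⊗ₜ[R] b) • ((1 : A1) ⊗ₜ[R] m)
        simp }
  have hgN : IsBaseChange (A1 ⊗[R] C) gN := isBaseChange_mk gN fun _ => rfl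
  haveI : Module.Finite (A1 ⊗[R] C) (A1 ⊗[R] N) := Module.Finite.equiv hgN.equiv
  have key : FlatCA.FlatAt A1 q1 (A1 ⊗[R] N) := by
    obtain ⟨C2, _, _, _, _, x, _, N2, _, _, _, _, _, _, f, hflat, hxq, hxm, hf, hD⟩ :=
      exists_devissage_model (A := A1) (A1 ⊗[R] N) q1
    haveI := hflat; haveI := hxq; haveI := hxm
    rcases hD with hD | hsub
    · obtain ⟨D, ⟨DD⟩⟩ := hD
      haveI : IsScalarTower A1 (A1 ⊗[R] C) N2 := IsScalarTower.of_algebraMap_smul fun r z => by
        rw [← algebraMap_smul C2 (algebraMap A1 (A1 ⊗[R] C) r) z, ← IsScalarTower.algebraMap_apply, algebraMap_smul]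
      obtain ⟨I, hI, hI'⟩ := FlatLocusDevissage.exists_ideal DD
      haveI : Module.Flat A1 N2 := flat_of_flat_quot_bot I (eq_bot_iff.mpr fun a ha => (Ideal.mem_bot).mpr (hdet a fun i => by
        have := Ideal.mem_map_of_mem (algebraMap A1 (T i)) ha
        rw [hI' (T i) (above_map hf x (above_tensor R C N hq1 (h i))), Ideal.mem_bot] at this
        exact this)) hI
      exact flatAt_of_flat_model hf q1 x
    · exact flatAt_of_flat_model hf q1 x
  haveI : Module.Flat A1 (Localization.AtPrime (maximalIdeal A1)) :=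
    IsLocalization.flat _ (maximalIdeal A1).primeCompl
  exact Groth.FlatmorThree.flatAt_descend gN hgN q q1 hq1 (maximalIdeal A1) hq1m
    (Module.Flat.trans R A1 _) key

end Groth.EGA43Desc
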