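import Groth.Agent.EGA43Desc.Stage
import Groth.Agent.FlatmorThree.FlatAtDescent
import Groth.Agent.RaynaudGruson.FlatLocusHensel
import Mathlib

/-!
# Descent of flatness at a point along an injective local homomorphism from a henselian local ring
-/

set_option autoImplicit false
set_option linter.style.haveILetI false
universe u

open TensorProduct IsLocalRing

namespace Groth.EGA43Desc

open Groth.RaynaudGruson

attribute [local instance] TensorAction.tModule

section transfer

open TensorAction

variable {A A' : Type u} [CommRing A] [CommRing A'] [Algebra A A'] {S C : Type u} [CommRing S] [CommRing C]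
  [Algebra A S] [Algebra A C] [Algebra S C] [IsScalarTower A S C] [Module.Flat S C]
  {N NC : Type u} [AddCommGroup N] [Module S N] [Module A N] [IsScalarTower A S N]
  [AddCommGroup NC] [Module C NC] [Module S NC] [IsScalarTower S C NC] [Module A NC] [IsScalarTower A C NC]

set_option maxHeartbeats 1600000 in
/-- Points and flatness after a flat base change of the algebra. -/
theorem exists_transfer {f : N →ₗ[S] NC} (hf : IsBaseChange C f) :
    (∀ (Q' : Ideal (A' ⊗[A] C)) [Q'.IsPrime],
      FlatPred.Pred A' (Q'.comap (Algebra.TensorProduct.map (AlgHom.id A A') (IsScalarTower.toAlgHom A S C)).toRingHom).primeCompl (A' ⊗[A] N) →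
      FlatPred.Pred A' Q'.primeCompl (A' ⊗[A] NC)) ∧
    ∀ (Q : Ideal (A' ⊗[A] S)) [Q.IsPrime] (x : Ideal C) [x.IsPrime],
      x.comap (algebraMap S C) = Q.comap (Algebra.TensorProduct.includeRight : S →ₐ[A] A' ⊗[A] S) →
      ∃ (Q' : Ideal (A' ⊗[A] C)) (_ : Q'.IsPrime),
        Q'.comap (Algebra.TensorProduct.includeRight : C →ₐ[A] A' ⊗[A] C) = x ∧
        Q'.comap (Algebra.TensorProduct.map (AlgHom.id A A') (IsScalarTower.toAlgHom A S C)).toRingHom = Q := by
  let G := Algebra.TensorProduct.map (AlgHom.id A A') (IsScalarTower.toAlgHom A S C)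
  letI iS : Algebra S (A' ⊗[A] S) := Algebra.TensorProduct.rightAlgebra
  letI iC : Algebra C (A' ⊗[A] C) := Algebra.TensorProduct.rightAlgebra
  haveI : Algebra.IsPushout A A' S (A' ⊗[A] S) := inferInstance
  haveI : Algebra.IsPushout A A' C (A' ⊗[A] C) := inferInstance
  letI iG : Algebra (A' ⊗[A] S) (A' ⊗[A] C) := G.toRingHom.toAlgebra
  letI iSC : Algebra S (A' ⊗[A] C) := ((algebraMap C (A' ⊗[A] C)).comp (algebraMap S C)).toAlgebra
  haveI : IsScalarTower S C (A' ⊗[A] C) := .of_algebraMap_eq' rfl
  haveI : IsScalarTower S (A' ⊗[A] S) (A' ⊗[A] C) := .of_algebraMap_eq fun s => by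
    show (1 : A') ⊗ₜ[A] algebraMap S C s = G ((1 : A') ⊗ₜ[A] s)
    simp [G]
  haveI : IsScalarTower A' (A' ⊗[A] S) (A' ⊗[A] C) := .of_algebraMap_eq fun a => by
    show a ⊗ₜ[A] (1 : C) = G (a ⊗ₜ[A] (1 : S))
    simp [G]
  haveI : IsScalarTower A S (A' ⊗[A] C) := .of_algebraMap_eq fun a => by
    show algebraMap A (A' ⊗[A] C) a = (1 : A') ⊗ₜ[A] algebraMap S C (algebraMap A S a)
    rw [← IsScalarTower.algebraMap_apply]
    exact ((Algebra.TensorProduct.includeRight : C →ₐ[A] A' ⊗[A] C).commutes a).symm
  haveI : Algebra.IsPushout A S A' (A' ⊗[A] S) := Algebra.IsPushout.symm inferInstance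
  haveI : Algebra.IsPushout A C A' (A' ⊗[A] C) := Algebra.IsPushout.symm inferInstance
  haveI : Algebra.IsPushout S C (A' ⊗[A] S) (A' ⊗[A] C) :=
    ((Algebra.IsPushout.comp_iff A S A' (T := C) (S' := A' ⊗[A] S) (T' := A' ⊗[A] C)).1 inferInstance)
  haveI : Algebra.IsPushout S (A' ⊗[A] S) C (A' ⊗[A] C) := Algebra.IsPushout.symm inferInstance
  haveI : @Module.Flat (A' ⊗[A] S) (A' ⊗[A] C) _ _ Algebra.toModule :=
    @Module.Flat.of_linearEquiv (A' ⊗[A] S) ((A' ⊗[A] S) ⊗[S] C) (A' ⊗[A] C) _ _ _ _ Algebra.toModule inferInstance (Algebra.IsPushout.equiv S (A' ⊗[A] S) C (A' ⊗[A] C)).symm.toLinearEquiv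
  letI : Module S (A' ⊗[A] N) := Module.compHom _ (algebraMap S (A' ⊗[A] S))
  haveI : IsScalarTower S (A' ⊗[A] S) (A' ⊗[A] N) := IsScalarTower.of_algebraMap_smul fun _ _ => rfl
  letI : Module C (A' ⊗[A] NC) := Module.compHom _ (algebraMap C (A' ⊗[A] C))
  haveI : IsScalarTower C (A' ⊗[A] C) (A' ⊗[A] NC) := IsScalarTower.of_algebraMap_smul fun _ _ => rfl
  letI : Module S (A' ⊗[A] NC) := Module.compHom _ (algebraMap S (A' ⊗[A] C))
  haveI : IsScalarTower S (A' ⊗[A] C) (A' ⊗[A] NC) := IsScalarTower.of_algebraMap_smul fun _ _ => rfl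
  haveI : IsScalarTower S C (A' ⊗[A] NC) := IsScalarTower.of_algebraMap_smul fun s z => by
    rw [← algebraMap_smul (A' ⊗[A] C) (algebraMap S C s) z, ← IsScalarTower.algebraMap_apply, algebraMap_smul]
  letI : Module (A' ⊗[A] S) (A' ⊗[A] NC) := Module.compHom _ G.toRingHom
  haveI : IsScalarTower (A' ⊗[A] S) (A' ⊗[A] C) (A' ⊗[A] NC) := IsScalarTower.of_algebraMap_smul fun _ _ => rfl
  haveI : IsScalarTower S (A' ⊗[A] S) (A' ⊗[A] NC) := IsScalarTower.of_algebraMap_smul fun s z => by
    rw [← algebraMap_smul (A' ⊗[A] C) (algebraMap S (A' ⊗[A] S) s) z, ← IsScalarTower.algebraMap_apply, algebraMap_smul]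
  let gN : N →ₗ[S] A' ⊗[A] N :=
    { toFun := fun m => (1 : A') ⊗ₜ[A] m
      map_add' := tmul_add _
      map_smul' := fun b m => by
        show (1 : A') ⊗ₜ[A] (b • m) = ((1 : A') ⊗ₜ[A] b) • ((1 : A') ⊗ₜ[A] m)
        simp }
  have hgN : IsBaseChange (A' ⊗[A] S) gN := isBaseChange_mk gN fun _ => rfl
  let gC : NC →ₗ[C] A' ⊗[A] NC :=
    { toFun := fun m => (1 : A') ⊗ₜ[A] m
      map_add' := tmul_add _
      map_smul' := fun b m => by
        show (1 : A') ⊗ₜ[A] (b • m) = ((1 : A') ⊗ₜ[A] b) • ((1 : A') ⊗ₜ[A] m)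
        simp }
  have hgC : IsBaseChange (A' ⊗[A] C) gC := isBaseChange_mk gC fun _ => rfl
  let g2 : N →ₗ[S] A' ⊗[A] NC := (gC.restrictScalars S).comp f
  have hg2 : IsBaseChange (A' ⊗[A] C) g2 := IsBaseChange.comp (S := C) hf hgC
  obtain ⟨h, hh⟩ := FlatLocusHensel.exists_lift hgN hg2
  refine ⟨fun Q' _ hQ => ?_, fun Q _ x _ hx => ?_⟩
  · exact (FlatPred.flat_iff _).mp
      ((Groth.Agent.S6928.flatAt_iff_of_flat (B := A') hh Q').mp ((FlatPred.flat_iff _).mpr hQ))
  · obtain ⟨Q', hQ', h1, h2⟩ := Groth.FlatmorThree.exists_prime_over_both (R := S) (S := A' ⊗[A] S) (R' := C)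
      (S' := A' ⊗[A] C) Q x hx
    exact ⟨Q', hQ', h2, h1⟩

theorem somewhere_map {m' : Ideal A'} {q : Ideal S} {f : N →ₗ[S] NC} (hf : IsBaseChange C f) (x : Ideal C)
    [x.IsPrime] [hx : x.LiesOver q] (h : Somewhere A m' q N) : Somewhere A m' x NC := by
  obtain ⟨Q, hQ, h1, h2, hflat⟩ := h
  obtain ⟨hF, hP⟩ := exists_transfer (A' := A') (A := A) (S := S) (N := N) hf
  obtain ⟨Q', hQ', e1, e2⟩ := hP Q x (by rw [h2]; exact hx.over.symm)
  haveI := hQ'
  refine ⟨Q', hQ', ?_, e1, hF Q' (by simp only [e2]; exact hflat)⟩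
  rw [← comap_map_left (B := S) Q', e2, h1]

theorem above_map {m' : Ideal A'} {q : Ideal S} {f : N →ₗ[S] NC} (hf : IsBaseChange C f) (x : Ideal C)
    [x.IsPrime] [hx : x.LiesOver q] (h : Above A m' q N) : Above A m' x NC := by
  intro Q' _ h1 h2
  refine (exists_transfer (A' := A') (A := A) (S := S) (N := N) hf).1 Q' (h _ ?_ ?_)
  · rw [comap_map_left (B := S) Q', h1]
  · rw [comap_map_right (B := S) Q', h2]
    exact hx.over.symm

end transfer

set_option maxHeartbeats 1600000 in
/-- The algebra with a dévissage over a henselian local ring, above a point of a finite type algebra. -/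
theorem exists_devissage_model {A S : Type u} [CommRing A] [HenselianLocalRing A] [CommRing S] [Algebra A S]
    [Algebra.FiniteType A S] (N : Type u) [AddCommGroup N] [Module S N] [Module A N] [IsScalarTower A S N]
    [Module.Finite S N] (q : Ideal S) [q.IsPrime] [q.LiesOver (maximalIdeal A)] :
    ∃ (C : Type u) (_ : CommRing C) (_ : Algebra S C) (_ : Algebra A C) (_ : IsScalarTower A S C) (x : Ideal C)
      (_ : x.IsPrime) (NC : Type u) (_ : AddCommGroup NC) (_ : Module C NC) (_ : Module S NC) (_ : IsScalarTower S C NC)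
      (_ : Module A NC) (_ : IsScalarTower A C NC) (f : N →ₗ[S] NC),
      Module.Flat S C ∧ x.LiesOver q ∧ x.LiesOver (maximalIdeal A) ∧ IsBaseChange C f ∧
      (FlatCA.HasCompleteDevissageAt A C NC (maximalIdeal A) x ∨ Subsingleton NC) := by
  obtain ⟨R', S', _, _, _, _, _, _, _, _, p', q', _, _, hR, hS, hq'p', hdev⟩ :=
    LocalStructure.exists_nbhd N (maximalIdeal A) q
  have hbij := FreeEmbedding.bijective_of_isEtaleNhd p' hR
  obtain ⟨hRet, hp'o, -⟩ := hR
  obtain ⟨hSet, hq'o, -⟩ := hS
  haveI := hRet; haveI := hp'o; haveI := hSet; haveI := hq'o; haveI := hq'p'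
  haveI : Algebra.FiniteType A S' := Algebra.FiniteType.trans (S := S) inferInstance inferInstance
  haveI : Algebra.FiniteType R' S' := Algebra.FiniteType.of_restrictScalars_finiteType A R' S'
  -- `A` as the localisation of `R'` at `p'`
  let L := Localization.AtPrime p'
  let e : A ≃ₐ[A] L := AlgEquiv.ofBijective (Algebra.ofId A L) hbij
  letI : Algebra R' A := (e.symm.toRingEquiv.toRingHom.comp (algebraMap R' L)).toAlgebra
  haveI : IsScalarTower A R' A := IsScalarTower.of_algebraMap_eq fun a => by
    show a = e.symm (algebraMap R' L (algebraMap A R' a))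
    rw [← IsScalarTower.algebraMap_apply, AlgEquiv.commutes]
    rfl
  let e' : L ≃ₐ[R'] A := { e.symm.toRingEquiv with commutes' := fun r => rfl }
  haveI : IsLocalization.AtPrime A p' := IsLocalization.isLocalization_of_algEquiv p'.primeCompl e'
  haveI hmo : (maximalIdeal A).LiesOver p' := ⟨(IsLocalization.AtPrime.under_maximalIdeal A p').symm⟩
  have hκ : Function.Bijective (Ideal.ResidueField.mapₐ p' (maximalIdeal A) (Algebra.ofId R' A) hmo.over) := by
    refine ⟨RingHom.injective _, fun z => ?_⟩
    obtain ⟨a, rfl⟩ := Ideal.algebraMap_residueField_surjective (maximalIdeal A) z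
    refine ⟨algebraMap R' p'.ResidueField (algebraMap A R' a), ?_⟩
    rw [AlgHom.commutes, IsScalarTower.algebraMap_apply R' A (maximalIdeal A).ResidueField,
      ← IsScalarTower.algebraMap_apply A R' A]
    rfl
  obtain ⟨C, _, _, _, _, _, _, hpush⟩ := EtalePushout.exists_pushout R' S' A
  haveI := hpush
  haveI : Algebra.IsPushout R' S' A C := Algebra.IsPushout.symm inferInstance
  haveI hloc : IsLocalization (Algebra.algebraMapSubmonoid S' p'.primeCompl) C :=
    (Algebra.isLocalization_iff_isPushout p'.primeCompl A).mpr inferInstance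
  letI : Algebra S C := ((algebraMap S' C).comp (algebraMap S S')).toAlgebra
  haveI : IsScalarTower S S' C := .of_algebraMap_eq' rfl
  haveI : IsScalarTower A S C := IsScalarTower.of_algebraMap_eq fun a => by
    show algebraMap A C a = algebraMap S' C (algebraMap S S' (algebraMap A S a))
    rw [← IsScalarTower.algebraMap_apply A S S', IsScalarTower.algebraMap_apply A R' S',
      ← IsScalarTower.algebraMap_apply R' S' C, IsScalarTower.algebraMap_apply R' A C,
      ← IsScalarTower.algebraMap_apply A R' A]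
    rfl
  haveI : Module.Flat S' C := IsLocalization.flat C (Algebra.algebraMapSubmonoid S' p'.primeCompl)
  haveI : Module.Flat S C := Module.Flat.trans S S' C
  have hdisj : Disjoint ((Algebra.algebraMapSubmonoid S' p'.primeCompl : Submonoid S') : Set S') (q' : Set S') := by
    refine Set.disjoint_left.mpr ?_
    rintro _ ⟨r, hr, rfl⟩ hmem
    exact hr ((Ideal.mem_of_liesOver q' p' r).mpr hmem)
  let x := q'.map (algebraMap S' C)
  haveI hxp : x.IsPrime := IsLocalization.isPrime_of_isPrime_disjoint (Algebra.algebraMapSubmonoid S' p'.primeCompl) C q' ‹_› hdisj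
  haveI hxq' : x.LiesOver q' :=
    ⟨(IsLocalization.comap_map_of_isPrime_disjoint (Algebra.algebraMapSubmonoid S' p'.primeCompl) C ‹_› hdisj).symm⟩
  haveI hxq : x.LiesOver q := Ideal.LiesOver.trans x q' q
  haveI hxm : x.LiesOver (maximalIdeal A) := ⟨by
    refine ((maximalIdeal.isMaximal A).eq_of_le (Ideal.IsPrime.under A x).ne_top ?_)
    rw [← IsLocalization.AtPrime.map_eq_maximalIdeal p' A, Ideal.map_le_iff_le_comap]
    intro r hr
    show algebraMap A C (algebraMap R' A r) ∈ x
    rw [← IsScalarTower.algebraMap_apply, IsScalarTower.algebraMap_apply R' S' C]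
    exact Ideal.mem_map_of_mem _ ((Ideal.mem_of_liesOver q' p' r).mp hr)⟩
  obtain ⟨N', _, _, _, _, f', hf'⟩ := EtalePushout.exists_baseChange S S' N
  haveI : Module.Finite S' N' := Module.Finite.equiv hf'.equiv
  obtain ⟨NC, _, _, _, _, g, hg⟩ := EtalePushout.exists_baseChange S' C N'
  letI : Module S NC := Module.compHom NC (algebraMap S C)
  haveI : IsScalarTower S C NC := IsScalarTower.of_algebraMap_smul fun _ _ => rfl
  haveI : IsScalarTower S S' NC := IsScalarTower.of_algebraMap_smul fun s z => by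
    rw [← algebraMap_smul C (algebraMap S S' s) z, ← IsScalarTower.algebraMap_apply, algebraMap_smul]
  letI : Module A NC := Module.compHom NC (algebraMap A C)
  haveI : IsScalarTower A C NC := IsScalarTower.of_algebraMap_smul fun _ _ => rfl
  refine ⟨C, inferInstance, inferInstance, inferInstance, inferInstance, x, inferInstance, NC, inferInstance,
    inferInstance, inferInstance, inferInstance, inferInstance, inferInstance, (g.restrictScalars S).comp f',
    inferInstance, hxq, inferInstance, hf'.comp hg, ?_⟩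
  rcases hdev N' f' hf' with hdev | hsub
  · haveI : Algebra.IsPushout R' A S' C := Algebra.IsPushout.symm inferInstance
    exact Or.inl (DevissageOps.baseChange hdev A (maximalIdeal A) hκ C NC g hg x)
  · exact Or.inr hg.equiv.symm.toEquiv.subsingleton

/-- Descent of flatness to the given algebra. -/
theorem flatAt_of_flat_model {A S C : Type u} [CommRing A] [CommRing S] [CommRing C] [Algebra A S] [Algebra A C]
    [Algebra S C] [IsScalarTower A S C] [Module.Flat S C] {N NC : Type u} [AddCommGroup N] [Module S N] [Module A N]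
    [IsScalarTower A S N] [AddCommGroup NC] [Module C NC] [Module S NC] [IsScalarTower S C NC] [Module A NC]
    [IsScalarTower A C NC] {f : N →ₗ[S] NC} (hf : IsBaseChange C f) (q : Ideal S) [q.IsPrime] (x : Ideal C)
    [x.IsPrime] [hx : x.LiesOver q] [Module.Flat A NC] : FlatCA.FlatAt A q N := by
  have h : Module.Flat A (LocalizedModule x.primeCompl NC) :=
    (FlatPred.flat_iff _).mpr (FlatPred.pred_of_flat _)
  have := (Groth.Agent.S6928.flatAt_iff_of_flat (B := A) hf x).mpr h
  unfold FlatCA.FlatAt
  obtain rfl : q = Ideal.comap (algebraMap S C) x := hx.over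
  exact this

open TensorAction in
/-- **Flatness descends from one point above** over a henselian local ring with separably closed residue field. -/
theorem flatAt_of_somewhere {A S : Type u} [CommRing A] [HenselianLocalRing A] [IsSepClosed (ResidueField A)]
    [CommRing S] [Algebra A S] [Algebra.FiniteType A S] (N : Type u) [AddCommGroup N] [Module S N] [Module A N]
    [IsScalarTower A S N] [Module.Finite S N] (q : Ideal S) [q.IsPrime] [q.LiesOver (maximalIdeal A)]
    {A' : Type u} [CommRing A'] [IsLocalRing A'] [Algebra A A'] [IsLocalHom (algebraMap A A')]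
    (hA : Function.Injective (algebraMap A A')) (h : Somewhere A (maximalIdeal A') q N) :
    FlatCA.FlatAt A q N := by
  obtain ⟨C, _, _, _, _, x, _, NC, _, _, _, _, _, _, f, hflat, hxq, hxm, hf, hD⟩ := exists_devissage_model (A := A) N q
  haveI := hflat; haveI := hxq; haveI := hxm
  rcases hD with hD | hsub
  · obtain ⟨D, ⟨DD⟩⟩ := hD
    haveI : IsScalarTower A S NC := IsScalarTower.of_algebraMap_smul fun r z => by
      rw [← algebraMap_smul C (algebraMap A S r) z, ← IsScalarTower.algebraMap_apply, algebraMap_smul]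
    haveI := flat_of_somewhere hA DD (somewhere_map hf x h)
    exact flatAt_of_flat_model hf q x
  · exact flatAt_of_flat_model hf q x

open TensorAction in
/-- **Flatness descends from all points above** over a henselian local ring. -/
theorem flatAt_of_above {A S : Type u} [CommRing A] [HenselianLocalRing A]
    [CommRing S] [Algebra A S] [Algebra.FiniteType A S] (N : Type u) [AddCommGroup N] [Module S N] [Module A N]
    [IsScalarTower A S N] [Module.Finite S N] (q : Ideal S) [q.IsPrime] [q.LiesOver (maximalIdeal A)]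
    {A' : Type u} [CommRing A'] [IsLocalRing A'] [Algebra A A'] [IsLocalHom (algebraMap A A')]
    (hA : Function.Injective (algebraMap A A')) (h : Above A (maximalIdeal A') q N) :
    FlatCA.FlatAt A q N := by
  obtain ⟨C, _, _, _, _, x, _, NC, _, _, _, _, _, _, f, hflat, hxq, hxm, hf, hD⟩ := exists_devissage_model (A := A) N q
  haveI := hflat; haveI := hxq; haveI := hxm
  rcases hD with hD | hsub
  · obtain ⟨D, ⟨DD⟩⟩ := hD
    haveI : IsScalarTower A S NC := IsScalarTower.of_algebraMap_smul fun r z => by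
      rw [← algebraMap_smul C (algebraMap A S r) z, ← IsScalarTower.algebraMap_apply, algebraMap_smul]
    obtain ⟨I, hI, hI'⟩ := FlatLocusDevissage.exists_ideal DD
    haveI : Module.Flat A NC := flat_of_flat_quot_bot I (eq_bot_iff.mpr fun a ha => by
      have := Ideal.mem_map_of_mem (algebraMap A A') ha
      rw [hI' A' (above_map hf x h), Ideal.mem_bot] at this
      exact (Ideal.mem_bot).mpr (hA (by rw [this, map_zero]))) hI
    exact flatAt_of_flat_model hf q x
  · exact flatAt_of_flat_model hf q x

end Groth.EGA43Desc
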