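import Groth.Agent.EGA43Desc.Detect
import Groth.Agent.EGA43Closed.Scheme
import Mathlib

/-!
# The local rings along the closed fibre of a proper scheme over a local ring detect functions
-/

set_option autoImplicit false
set_option linter.style.haveILetI false
set_option backward.isDefEq.respectTransparency.types false
universe u

open CategoryTheory CategoryTheory.Limits AlgebraicGeometry TensorProduct IsLocalRing

namespace Groth.EGA43Desc

/-- Vanishing in a local ring of an affine chart. -/
theorem germ_chart_eq_zero_iff {A1 T : Type u} [CommRing A1] [CommRing T] [Algebra A1 T] {Z : Scheme.{u}}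
    (h : Z ⟶ Spec (CommRingCat.of A1)) (c : Spec (CommRingCat.of T) ⟶ Z) [IsOpenImmersion c]
    (hc : c ≫ h = Spec.map (CommRingCat.ofHom (algebraMap A1 T))) (r : PrimeSpectrum T) (a : A1) :
    Z.presheaf.germ ⊤ (c r) trivial (h.appTop ((Scheme.ΓSpecIso (CommRingCat.of A1)).inv a)) = 0 ↔
      algebraMap A1 (Localization.AtPrime r.asIdeal) a = 0 := by
  have hinj : Function.Injective (c.stalkMap r) :=
    (ConcreteCategory.bijective_of_isIso (c.stalkMap r)).1
  rw [← map_eq_zero_iff _ hinj, Scheme.Hom.germ_stalkMap_apply]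
  have h1 : c.appTop (h.appTop ((Scheme.ΓSpecIso (CommRingCat.of A1)).inv a)) =
      (Scheme.ΓSpecIso (CommRingCat.of T)).inv (algebraMap A1 T a) := by
    rw [← ConcreteCategory.comp_apply, ← Scheme.Hom.comp_appTop, hc]
    exact congr($(Scheme.ΓSpecIso_inv_naturality (CommRingCat.ofHom (algebraMap A1 T))) a).symm
  show (Spec (CommRingCat.of T)).presheaf.germ ⊤ r trivial (c.appTop _) = 0 ↔ _
  rw [h1, IsScalarTower.algebraMap_apply A1 T (Localization.AtPrime r.asIdeal)]
  let e := Spec.stalkIso (CommRingCat.of T) r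
  have hinj' : Function.Injective e.hom := (ConcreteCategory.bijective_of_isIso e.hom).1
  rw [← map_eq_zero_iff _ hinj']
  have h2 : e.hom ((Spec (CommRingCat.of T)).presheaf.germ ⊤ r trivial
      ((Scheme.ΓSpecIso (CommRingCat.of T)).inv (algebraMap A1 T a))) =
      algebraMap T (Localization.AtPrime r.asIdeal) (algebraMap A1 T a) := by
    have := congr($(Spec.germ_stalkMapIso_hom (R := CommRingCat.of T) r) ((Scheme.ΓSpecIso (CommRingCat.of T)).inv (algebraMap A1 T a)))
    erw [ConcreteCategory.comp_apply, ConcreteCategory.comp_apply, Iso.inv_hom_id_apply] at this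
    exact this
  rw [h2]

/-- **The closed fibre detects functions.** -/
theorem forall_localized_eq_zero {A1 : Type u} [CommRing A1] [IsLocalRing A1] {Z : Scheme.{u}}
    (h : Z ⟶ Spec (CommRingCat.of A1)) [UniversallyClosed h] {ι : Type u} (T : ι → Type u)
    [∀ i, CommRing (T i)] [∀ i, Algebra A1 (T i)] (c : ∀ i, Spec (CommRingCat.of (T i)) ⟶ Z)
    [∀ i, IsOpenImmersion (c i)] (hc : ∀ i, c i ≫ h = Spec.map (CommRingCat.ofHom (algebraMap A1 (T i))))
    (hcov : ∀ z, ∃ i, z ∈ Set.range (c i)) (a : A1)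
    (ha : ∀ (i : ι) (r : PrimeSpectrum (T i)), r.asIdeal.comap (algebraMap A1 (T i)) = maximalIdeal A1 →
      algebraMap A1 (Localization.AtPrime r.asIdeal) a = 0) (i : ι) :
    algebraMap A1 (T i) a = 0 := by
  let t := h.appTop ((Scheme.ΓSpecIso (CommRingCat.of A1)).inv a)
  let O : Set Z := {z | Z.presheaf.germ ⊤ z trivial t = 0}
  have hO : IsOpen O := by
    rw [isOpen_iff_forall_mem_open]
    intro z hz
    obtain ⟨W, hzW, i₁, i₂, e⟩ := Z.presheaf.germ_eq z (U := ⊤) (V := ⊤) trivial trivial t 0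
      (by rw [map_zero]; exact hz)
    refine ⟨(W : Set Z), fun w hw => ?_, W.2, hzW⟩
    show Z.presheaf.germ ⊤ w trivial t = 0
    rw [← TopCat.Presheaf.germ_res_apply Z.presheaf i₁ w hw, e, map_zero, map_zero]
  have hall : ∀ z, z ∈ O := by
    by_contra hne
    obtain ⟨z, hz⟩ := not_forall.mp hne
    have hcl : IsClosed (h '' Oᶜ) := h.isClosedMap _ hO.isClosed_compl
    have hmem : IsLocalRing.closedPoint A1 ∈ h '' Oᶜ :=
      (IsLocalRing.specializes_closedPoint (h z)).mem_closed hcl ⟨z, hz, rfl⟩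
    obtain ⟨z0, hz0, hz0c⟩ := hmem
    obtain ⟨i, r, rfl⟩ := hcov z0
    refine hz0 ((germ_chart_eq_zero_iff h (c i) (hc i) r a).mpr (ha i r ?_))
    have : Spec.map (CommRingCat.ofHom (algebraMap A1 (T i))) r = IsLocalRing.closedPoint A1 := by
      rw [← hc, Scheme.Hom.comp_apply]; exact hz0c
    exact congrArg PrimeSpectrum.asIdeal this
  by_contra hne
  obtain ⟨M, hM, hMle⟩ := Ideal.exists_le_maximal (Submodule.span (T i) {algebraMap A1 (T i) a}).annihilator (by
    rw [Ne, Ideal.eq_top_iff_one]
    intro h1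
    rw [Submodule.mem_annihilator_span_singleton, one_smul] at h1
    exact hne h1)
  let r : PrimeSpectrum (T i) := ⟨M, hM.isPrime⟩
  have h0 := (germ_chart_eq_zero_iff h (c i) (hc i) r a).mp (hall _)
  rw [IsScalarTower.algebraMap_apply A1 (T i) (Localization.AtPrime r.asIdeal),
    IsLocalization.map_eq_zero_iff r.asIdeal.primeCompl] at h0
  obtain ⟨s, hs⟩ := h0
  exact s.2 (hMle (by rw [Submodule.mem_annihilator_span_singleton, smul_eq_mul]; exact hs))

end Groth.EGA43Desc
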