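import Groth.Agent.EGA43Desc.ProperDetect
import Groth.Agent.FlatMorOne.FlatLocusScheme
import Groth.Agent.PropsBasic.FPSections
import Groth.Agent.EGA43Closed.Scheme
import Groth.Agent.S0506
import Groth.Agent.S0509
import Mathlib

/-!
# Flatness descends along proper morphisms which are injective on functions
-/

set_option autoImplicit false
set_option linter.style.haveILetI false
set_option backward.isDefEq.respectTransparency.types false
universe u

open CategoryTheory CategoryTheory.Limits AlgebraicGeometry TensorProduct IsLocalRing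

namespace Groth.EGA43Desc

open Groth.QCohMod (sectionsAlg pullSecEquiv)
open Groth.Flatmor4 (sectionModule)
open Groth.EGA43Sep (prodOpen prodOpen_le isAffineOpen_prodOpen)

/-- A prime of the sections over an affine open contracting to that of a point comes from a point over it. -/
theorem map_fromSpec_eq {X Y : Scheme.{u}} (g : X ⟶ Y) {P : X.Opens} {U : Y.Opens} (hP : IsAffineOpen P)
    (hU : IsAffineOpen U) (e : P ≤ g ⁻¹ᵁ U) (𝔮 : PrimeSpectrum Γ(X, P)) (y : U)
    (h : 𝔮.asIdeal.comap (g.appLE U P e).hom = (hU.primeIdealOf y).asIdeal) : g (hP.fromSpec 𝔮) = y.1 := by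
  rw [← Scheme.Hom.comp_apply, ← IsAffineOpen.SpecMap_appLE_fromSpec g hU hP e, Scheme.Hom.comp_apply]
  have : Spec.map (g.appLE U P e) 𝔮 = hU.primeIdealOf y := PrimeSpectrum.ext h
  rw [this, hU.fromSpec_primeIdealOf]

set_option maxHeartbeats 1600000 in
/-- The hypothesis on one chart. -/
theorem pred_chart {X Y Y' : Scheme.{u}} (f : X ⟶ Y) (g : Y' ⟶ Y) (F : X.Modules) [F.IsQuasicoherent] (x : X)
    {U : X.Opens} {V : Y.Opens} {W : Y'.Opens} (e₁ : U ≤ f ⁻¹ᵁ V) (e₂ : W ≤ g ⁻¹ᵁ V) (hU : IsAffineOpen U)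
    (hV : IsAffineOpen V) (hW : IsAffineOpen W) (hx : x ∈ U)
    (hflat : ∀ x' : ↥(pullback f g), pullback.fst f g x' = x →
      FlatMod.IsFlatOverAt (pullback.snd f g) ((Scheme.Modules.pullback (pullback.fst f g)).obj F) x')
    (T : Type u) [CommRing T] :
    letI := (f.appLE V U e₁).hom.toAlgebra
    letI := (g.appLE V W e₂).hom.toAlgebra
    letI : Module Γ(Y, V) Γ(F, U) := sectionModule f F e₁
    haveI : IsScalarTower Γ(Y, V) Γ(X, U) Γ(F, U) := IsScalarTower.of_algebraMap_smul fun _ _ => rfl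
    ∀ [Algebra Γ(Y, V) T] [Algebra Γ(Y', W) T] [IsScalarTower Γ(Y, V) Γ(Y', W) T]
      (Q : Ideal (T ⊗[Γ(Y, V)] Γ(X, U))) [Q.IsPrime],
      Q.comap (Algebra.TensorProduct.includeRight : Γ(X, U) →ₐ[Γ(Y, V)] T ⊗[Γ(Y, V)] Γ(X, U)) =
        (hU.primeIdealOf ⟨x, hx⟩).asIdeal →
      (letI := Groth.RaynaudGruson.TensorAction.tModule (A := Γ(Y, V)) (A' := T) Γ(X, U) Γ(F, U)
       Groth.RaynaudGruson.FlatPred.Pred T Q.primeCompl (T ⊗[Γ(Y, V)] Γ(F, U))) := by
  let pr := pullback.fst f g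
  let sn := pullback.snd f g
  let P := prodOpen f g U W
  have eP : P ≤ pr ⁻¹ᵁ U := prodOpen_le f g U W
  have hP : IsAffineOpen P := isAffineOpen_prodOpen f g e₁ e₂ hV hW hU
  let _ := (f.appLE V U e₁).hom.toAlgebra
  let _ := (g.appLE V W e₂).hom.toAlgebra
  let _ : Module Γ(Y, V) Γ(F, U) := sectionModule f F e₁
  have : IsScalarTower Γ(Y, V) Γ(X, U) Γ(F, U) := IsScalarTower.of_algebraMap_smul fun _ _ => rfl
  let _ := sectionsAlg pr eP
  let _ : Algebra Γ(Y', W) Γ(pullback f g, P) := (sn.appLE W P inf_le_right).hom.toAlgebra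
  let _ : Algebra Γ(Y, V) Γ(pullback f g, P) := ((f.appLE V U e₁) ≫ pr.appLE U P eP).hom.toAlgebra
  have : IsScalarTower Γ(Y, V) Γ(X, U) Γ(pullback f g, P) := IsScalarTower.of_algebraMap_eq fun _ => rfl
  have hpush := (isIso_pushoutSection_iff (IsPullback.of_hasPullback f g)
    (US := V) (UT := W) (UX := U) (UY := P) e₂ e₁ rfl).1
    (isIso_pushoutSection_of_isAffineOpen (IsPullback.of_hasPullback f g) e₂ e₁ rfl hV hW hU)
  have : IsScalarTower Γ(Y, V) Γ(Y', W) Γ(pullback f g, P) :=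
    IsScalarTower.of_algebraMap_eq fun r => congrArg (fun φ => φ.hom r) hpush.w
  have : Algebra.IsPushout Γ(Y, V) Γ(X, U) Γ(Y', W) Γ(pullback f g, P) :=
    CommRingCat.isPushout_iff_isPushout.1 hpush
  have : Algebra.IsPushout Γ(Y, V) Γ(Y', W) Γ(X, U) Γ(pullback f g, P) := Algebra.IsPushout.symm inferInstance
  intro _ _ _ Q _ hQ
  let F' := (Scheme.Modules.pullback pr).obj F
  let _ : Module Γ(Y', W) Γ(F', P) := sectionModule sn F' inf_le_right
  have : IsScalarTower Γ(Y', W) Γ(pullback f g, P) Γ(F', P) := IsScalarTower.of_algebraMap_smul fun _ _ => rfl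
  let _ : Module Γ(X, U) Γ(F', P) := Module.compHom _ (algebraMap Γ(X, U) Γ(pullback f g, P))
  have : IsScalarTower Γ(X, U) Γ(pullback f g, P) Γ(F', P) := IsScalarTower.of_algebraMap_smul fun _ _ => rfl
  let β : Γ(F, U) →ₗ[Γ(X, U)] Γ(F', P) :=
    ((pullSecEquiv pr F eP hU hP).toLinearMap.restrictScalars Γ(X, U)) ∘ₗ
      TensorProduct.mk Γ(X, U) Γ(pullback f g, P) Γ(F, U) 1
  have hβ : IsBaseChange Γ(pullback f g, P) β :=
    IsBaseChange.of_equiv (pullSecEquiv pr F eP hU hP) fun _ => rfl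
  refine pred_tensor_of_flatAt (B := Γ(Y', W)) hβ Q fun 𝔮 _ h𝔮 => ?_
  have hyP : hP.fromSpec ⟨𝔮, inferInstance⟩ ∈ P := by
    change hP.fromSpec ⟨𝔮, inferInstance⟩ ∈ (P : Set _)
    rw [← hP.range_fromSpec]
    exact ⟨_, rfl⟩
  have hpt : hP.primeIdealOf ⟨hP.fromSpec ⟨𝔮, inferInstance⟩, hyP⟩ = ⟨𝔮, inferInstance⟩ :=
    hP.fromSpec.isOpenEmbedding.injective (hP.fromSpec_primeIdealOf _)
  have hfl := (Groth.FlatMorOne.isFlatOverAt_iff_localized sn F' hP hW inf_le_right ⟨_, hyP⟩).mp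
    (hflat _ (map_fromSpec_eq pr hP hU eP ⟨𝔮, inferInstance⟩ ⟨x, hx⟩ (h𝔮.trans hQ)))
  unfold FlatCA.FlatAt
  revert hfl
  generalize hG : hP.primeIdealOf ⟨hP.fromSpec ⟨𝔮, inferInstance⟩, hyP⟩ = G
  obtain rfl : G = ⟨𝔮, inferInstance⟩ := hG.symm.trans hpt
  exact id

attribute [local instance] Algebra.TensorProduct.rightAlgebra in
set_option maxHeartbeats 1600000 in
/-- **Descent of flatness along a proper morphism injective on functions.** -/
theorem isFlatOverAt_of_proper {X Y Y' : Scheme.{u}} (f : X ⟶ Y) [LocallyOfFiniteType f] (F : X.Modules)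
    [F.IsQuasicoherent] (hF : CohB1.IsFP F) (x : X) (g : Y' ⟶ Y) [IsProper g]
    (hinj : ∀ (V : Y.Opens) (s : Γ(Y, V)), f x ∈ V → g.app V s = 0 →
      ∃ W : Y.Opens, f x ∈ W ∧ ∃ hWV : W ≤ V, Y.presheaf.map (homOfLE hWV).op s = 0)
    (hflat : ∀ x' : ↥(pullback f g), pullback.fst f g x' = x →
      FlatMod.IsFlatOverAt (pullback.snd f g) ((Scheme.Modules.pullback (pullback.fst f g)).obj F) x') :
    FlatMod.IsFlatOverAt f F x := by
  classical
  obtain ⟨_, ⟨V : Y.Opens, hV, rfl⟩, hyV, -⟩ :=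
    Y.isBasis_affineOpens.exists_subset_of_mem_open (Set.mem_univ (f x)) isOpen_univ
  obtain ⟨_, ⟨U : X.Opens, hU, rfl⟩, hxU, eU⟩ :=
    X.isBasis_affineOpens.exists_subset_of_mem_open (show x ∈ f ⁻¹ᵁ V from hyV) (f ⁻¹ᵁ V).2
  let p := (hV.primeIdealOf ⟨f x, hyV⟩).asIdeal
  -- a finite affine cover of the preimage
  have hqc : IsCompact ((g ⁻¹ᵁ V : Y'.Opens) : Set Y') := g.isCompact_preimage hV.isCompact
  obtain ⟨ι, hfin, W, hWu⟩ : ∃ (ι : Type u) (_ : Finite ι) (W : ι → Y'.affineOpens),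
      (g ⁻¹ᵁ V : Y'.Opens) = ⨆ i, (W i : Y'.Opens) := by
    obtain ⟨s, hs, e⟩ := (isCompact_and_isOpen_iff_finite_and_eq_biUnion_affineOpens (X := Y')
      (U := ((g ⁻¹ᵁ V : Y'.Opens) : Set Y'))).mp ⟨hqc, (g ⁻¹ᵁ V).2⟩
    exact ⟨s, hs.to_subtype, fun i => i.1, TopologicalSpace.Opens.ext (by
      rw [TopologicalSpace.Opens.coe_iSup]
      exact e.trans (Set.biUnion_eq_iUnion _ _))⟩
  have eW : ∀ i, (W i : Y'.Opens) ≤ g ⁻¹ᵁ V := fun i => hWu ▸ le_iSup (fun i => (W i : Y'.Opens)) i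
  letI := (f.appLE V U eU).hom.toAlgebra
  letI : ∀ i, Algebra Γ(Y, V) Γ(Y', W i) := fun i => (g.appLE V (W i) (eW i)).hom.toAlgebra
  letI : Module Γ(Y, V) Γ(F, U) := sectionModule f F eU
  haveI : IsScalarTower Γ(Y, V) Γ(X, U) Γ(F, U) := IsScalarTower.of_algebraMap_smul fun _ _ => rfl
  haveI : Algebra.FiniteType Γ(Y, V) Γ(X, U) := f.finiteType_appLE hV hU eU
  haveI := Groth.PropsBasic.FPSections.finitePresentation_sections F hF hU
  let q := (hU.primeIdealOf ⟨x, hxU⟩).asIdeal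
  haveI : q.LiesOver p := ⟨congrArg PrimeSpectrum.asIdeal
    (IsAffineOpen.comap_primeIdealOf_appLE V hV U hU eU hxU).symm⟩
  refine (Groth.FlatMorOne.isFlatOverAt_iff_localized f F hU hV eU ⟨x, hxU⟩).mpr ?_
  -- injectivity after localizing
  let A := Localization.AtPrime p
  let μ : A →ₗ[A] (∀ i, A ⊗[Γ(Y, V)] Γ(Y', W i)) := LinearMap.toSpanSingleton A _ (fun _ => 1)
  have hμ : Function.Injective μ := by
    rw [injective_iff_map_eq_zero]
    intro z hz
    obtain ⟨r, s, rfl⟩ := IsLocalization.exists_mk'_eq p.primeCompl z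
    have hzero : ∀ i, ∃ t : p.primeCompl, algebraMap Γ(Y, V) Γ(Y', W i) (t.1 * r) = 0 := by
      intro i
      have h1 := congrFun hz i
      simp only [μ, LinearMap.toSpanSingleton_apply, Pi.smul_apply, Pi.zero_apply] at h1
      have h2 : algebraMap Γ(Y, V) (A ⊗[Γ(Y, V)] Γ(Y', W i)) r = 0 := by
        rw [IsScalarTower.algebraMap_apply Γ(Y, V) A, ← IsLocalization.mk'_spec A r s, map_mul,
          Algebra.algebraMap_eq_smul_one (IsLocalization.mk' A r s), h1, zero_mul]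
      haveI : IsLocalization (Algebra.algebraMapSubmonoid Γ(Y', W i) p.primeCompl) (A ⊗[Γ(Y, V)] Γ(Y', W i)) :=
        (Algebra.isLocalization_iff_isPushout p.primeCompl A).mpr inferInstance
      rw [IsScalarTower.algebraMap_apply Γ(Y, V) Γ(Y', W i),
        IsLocalization.map_eq_zero_iff (Algebra.algebraMapSubmonoid Γ(Y', W i) p.primeCompl)] at h2
      obtain ⟨⟨_, t, ht, rfl⟩, h3⟩ := h2
      exact ⟨⟨t, ht⟩, by rw [map_mul]; exact h3⟩
    choose t ht using hzero
    haveI := Fintype.ofFinite ι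
    let t₀ : p.primeCompl := ∏ i, t i
    have hg0 : g.app V (t₀.1 * r) = 0 := by
      refine TopCat.Sheaf.eq_of_locally_eq' Y'.sheaf (fun i => (W i : Y'.Opens)) (g ⁻¹ᵁ V)
        (fun i => homOfLE (eW i)) hWu.le _ _ fun i => ?_
      refine Eq.trans ?_ (map_zero (Y'.sheaf.obj.map (homOfLE (eW i)).op).hom).symm
      have h4 := ht i
      show algebraMap Γ(Y, V) Γ(Y', W i) (t₀.1 * r) = 0
      simp only [t₀, Submonoid.coe_finsetProd, map_mul, map_prod] at h4 ⊢
      rw [← Finset.mul_prod_erase _ _ (Finset.mem_univ i), mul_right_comm, h4, zero_mul]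
    obtain ⟨W₀, hyW, hWV, hres⟩ := hinj V _ hyV hg0
    letI := TopCat.Presheaf.algebra_section_stalk Y.presheaf (⟨f x, hyV⟩ : V)
    haveI := hV.isLocalization_stalk ⟨f x, hyV⟩
    have hgerm : algebraMap Γ(Y, V) (Y.presheaf.stalk (f x)) (t₀.1 * r) = 0 := by
      show Y.presheaf.germ V (f x) hyV (t₀.1 * r) = 0
      rw [← TopCat.Presheaf.germ_res_apply Y.presheaf (homOfLE hWV) (f x) hyW, hres, map_zero]
    obtain ⟨u, hu⟩ := (IsLocalization.map_eq_zero_iff p.primeCompl (Y.presheaf.stalk (f x)) _).mp hgerm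
    exact (IsLocalization.mk'_eq_zero_iff r s).mpr ⟨u * t₀, by rw [← hu, Submonoid.coe_mul, mul_assoc]⟩
  -- the henselization
  obtain ⟨A1, _, _, _, _, hA1⟩ := Groth.Agent.S0506.result A
  haveI := hA1
  haveI : HenselianLocalRing A1 := hA1.henselian
  haveI : Module.FaithfullyFlat A A1 := Groth.Agent.S0509.result A A1
  letI : Algebra Γ(Y, V) A1 := ((algebraMap A A1).comp (algebraMap Γ(Y, V) A)).toAlgebra
  haveI : IsScalarTower Γ(Y, V) A A1 := .of_algebraMap_eq' rfl
  haveI : Module.Flat Γ(Y, V) A := IsLocalization.flat A p.primeCompl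
  haveI : Module.Flat Γ(Y, V) A1 := Module.Flat.trans Γ(Y, V) A A1
  haveI : (maximalIdeal A1).LiesOver p := ⟨by
    rw [← IsLocalization.AtPrime.under_maximalIdeal A p, Ideal.under_def, Ideal.under_def,
      ← maximalIdeal_comap (algebraMap A A1), Ideal.comap_comap]
    rfl⟩
  let T : ι → Type u := fun i => A1 ⊗[Γ(Y, V)] Γ(Y', W i)
  let J := Σ i, {r : PrimeSpectrum (T i) // r.asIdeal.comap (algebraMap A1 (T i)) = maximalIdeal A1}
  let L : J → Type u := fun j => Localization.AtPrime j.2.1.asIdeal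
  haveI : ∀ j : J, IsScalarTower Γ(Y, V) Γ(Y', W j.1) (L j) := fun j => inferInstance
  haveI : ∀ j : J, IsLocalHom (algebraMap A1 (L j)) := fun j => ⟨fun a ha => by
    by_contra hn
    have hm : algebraMap A1 (T j.1) a ∈ j.2.1.asIdeal := by
      rw [← Ideal.mem_comap, j.2.2]; exact hn
    rw [IsScalarTower.algebraMap_apply A1 (T j.1) (L j),
      IsLocalization.AtPrime.isUnit_to_map_iff (L j) j.2.1.asIdeal] at ha
    exact ha hm⟩
  refine flatAt_of_detect (N := Γ(F, U)) p q A1 L (fun a ha => ?_) fun j Q _ _ hQ2 => ?_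
  · -- detection
    let σ : Spec (CommRingCat.of A1) ⟶ Y := Spec.map (CommRingCat.ofHom (algebraMap Γ(Y, V) A1)) ≫ hV.fromSpec
    let h := pullback.snd g σ
    let c : ∀ i, Spec (CommRingCat.of (T i)) ⟶ pullback g σ := fun i =>
      (pullbackSpecIso Γ(Y, V) A1 Γ(Y', W i)).inv ≫ (pullbackSymmetry _ _).hom ≫
        pullback.map _ _ _ _ (W i).2.fromSpec (𝟙 _) hV.fromSpec
          (IsAffineOpen.SpecMap_appLE_fromSpec g hV (W i).2 (eW i)) (by rw [Category.id_comp])
    have hc : ∀ i, c i ≫ h = Spec.map (CommRingCat.ofHom (algebraMap A1 (T i))) := by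
      intro i
      simp only [c, h, Category.assoc, pullback.lift_snd, Category.comp_id]
      erw [pullbackSymmetry_hom_comp_snd, pullbackSpecIso_inv_fst']
    have hcov : ∀ z, ∃ i, z ∈ Set.range (c i) := by
      intro z
      have hz : pullback.fst g σ z ∈ g ⁻¹ᵁ V := by
        show g (pullback.fst g σ z) ∈ (V : Set Y)
        rw [← Scheme.Hom.comp_apply, pullback.condition, Scheme.Hom.comp_apply, ← hV.range_fromSpec]
        simp only [σ, Scheme.Hom.comp_apply]
        exact ⟨_, rfl⟩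
      rw [hWu, TopologicalSpace.Opens.mem_iSup] at hz
      obtain ⟨i, hi⟩ := hz
      refine ⟨i, ?_⟩
      have hm : z ∈ Set.range (pullback.map _ _ g σ (W i).2.fromSpec (𝟙 (Spec (CommRingCat.of A1))) hV.fromSpec
          (IsAffineOpen.SpecMap_appLE_fromSpec g hV (W i).2 (eW i)) (by rw [Category.id_comp])) := by
        rw [Scheme.Pullback.range_map]
        refine ⟨?_, ⟨h z, rfl⟩⟩
        show pullback.fst g σ z ∈ Set.range (W i).2.fromSpec
        rw [(W i).2.range_fromSpec]; exact hi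
      obtain ⟨w, rfl⟩ := hm
      let e := (pullbackSpecIso Γ(Y, V) A1 Γ(Y', W i)).inv ≫ (pullbackSymmetry _ _).hom
      refine ⟨(inv e) w, ?_⟩
      show (e ≫ _) ((inv e) w) = _
      rw [Scheme.Hom.comp_apply, ← Scheme.Hom.comp_apply (inv e) e, IsIso.inv_hom_id]
      rfl
    have hzero : ∀ i, algebraMap A1 (T i) a = 0 := fun i =>
      forall_localized_eq_zero h T c hc hcov a (fun i r hr => ha ⟨i, r, hr⟩) i
    have hl : Function.Injective (μ.lTensor A1) := Module.Flat.lTensor_preserves_injective_linearMap μ hμ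
    haveI := Fintype.ofFinite ι
    have h0 : μ.lTensor A1 (a ⊗ₜ[A] (1 : A)) = 0 := by
      refine (TensorProduct.piRight A A A1 fun i => A ⊗[Γ(Y, V)] Γ(Y', W i)).injective ?_
      rw [map_zero, LinearMap.lTensor_tmul, TensorProduct.piRight_apply, TensorProduct.piRightHom_tmul]
      funext i
      simp only [μ, LinearMap.toSpanSingleton_apply, one_smul, Pi.zero_apply]
      refine (AlgebraTensorModule.cancelBaseChange Γ(Y, V) A A A1 Γ(Y', W i)).injective ?_
      rw [map_zero, Algebra.TensorProduct.one_def, AlgebraTensorModule.cancelBaseChange_tmul, one_smul]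
      exact hzero i
    have := hl (h0.trans (map_zero _).symm)
    have h5 := congrArg (TensorProduct.rid A A1) this
    simpa using h5
  · exact pred_chart f g F x eU (eW j.1) hU hV (W j.1).2 hxU hflat (L j) Q hQ2

end Groth.EGA43Desc
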