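import Groth.Agent.EGA43Desc.Henselian
import Groth.Agent.FlatmorThree.FlatAtBaseChange
import Groth.Agent.FlatmorThree.FlatAtDescent
import Groth.Agent.S0509
import Groth.Agent.S0539
import Groth.Agent.S2749
import Groth.Agent.S2750
import Groth.Agent.S0506
import Groth.Agent.Hensel1.EtaleTransfer
import Mathlib

/-!
# Descent of flatness at a point along an injective local homomorphism from a unibranch local domain
-/

set_option autoImplicit false
set_option linter.style.haveILetI false
universe u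

open TensorProduct IsLocalRing

namespace Groth.EGA43Desc

open Groth.RaynaudGruson

attribute [local instance] TensorAction.tModule

/-- A local ring dominating a flat local extension and an injective one. -/
theorem exists_dominating {A A1 A' Ω : Type u} [CommRing A] [IsDomain A] [IsLocalRing A] [CommRing A1] [IsDomain A1]
    [IsLocalRing A1] [Algebra A A1] [Module.Flat A A1] [CommRing A'] [IsLocalRing A'] [Algebra A A']
    (hinj : Function.Injective (algebraMap A A')) [Field Ω] [Algebra A Ω] (φ1 : A1 →ₐ[A] Ω) (φ' : A' →ₐ[A] Ω)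
    (h1 : RingHom.ker φ1 = maximalIdeal A1) (h' : RingHom.ker φ' = maximalIdeal A') :
    ∃ (A'' : Type u) (_ : CommRing A'') (_ : IsLocalRing A'') (_ : Algebra A1 A'') (_ : Algebra A' A'')
      (_ : Algebra A A'') (_ : IsScalarTower A A1 A'') (_ : IsScalarTower A A' A'')
      (_ : IsLocalHom (algebraMap A1 A'')) (_ : IsLocalHom (algebraMap A' A'')) (ψ : A'' →ₐ[A] Ω),
      Function.Injective (algebraMap A1 A'') ∧ RingHom.ker ψ = maximalIdeal A'' ∧
        (∀ x, ψ (algebraMap A1 A'' x) = φ1 x) ∧ ∀ x, ψ (algebraMap A' A'' x) = φ' x := by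
  classical
  -- a prime of `A'` over zero
  obtain ⟨p0, hp0, -, hdisj⟩ := Ideal.exists_le_prime_disjoint (⊥ : Ideal A')
    ((nonZeroDivisors A).map (algebraMap A A').toMonoidHom) (Set.disjoint_left.mpr fun z hz hz' => by
      obtain ⟨a, ha, rfl⟩ := hz'
      exact nonZeroDivisors.ne_zero ha (hinj (by rw [map_zero]; exact (Ideal.mem_bot).mp hz)))
  haveI := hp0
  let A0 := A' ⧸ p0
  let K := FractionRing A
  let L := FractionRing A0
  have hq : Function.Injective (algebraMap A A0) := by
    rw [injective_iff_map_eq_zero]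
    intro a ha
    by_contra hne
    refine Set.disjoint_left.mp hdisj ?_ ⟨a, mem_nonZeroDivisors_of_ne_zero hne, rfl⟩
    exact Ideal.Quotient.eq_zero_iff_mem.mp ha
  have hg : Function.Injective (algebraMap A L) := by
    rw [IsScalarTower.algebraMap_eq A A0 L]
    exact (IsFractionRing.injective A0 L).comp hq
  let iK : K →ₐ[A] L := IsFractionRing.liftAlgHom (g := Algebra.ofId A L) hg
  letI : Algebra K L := iK.toRingHom.toAlgebra
  haveI : IsScalarTower A K L := .of_algebraMap_eq fun x => (iK.commutes x).symm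
  -- nonzero elements of `A1` are regular on `A1 ⊗ A0`
  let T := A1 ⊗[A] A0
  let j : T →ₐ[A] A1 ⊗[A] L := Algebra.TensorProduct.map (AlgHom.id A A1) (IsScalarTower.toAlgHom A A0 L)
  have hj : Function.Injective j := by
    show Function.Injective (((IsScalarTower.toAlgHom A A0 L).toLinearMap).lTensor A1)
    exact Module.Flat.lTensor_preserves_injective_linearMap _ (IsFractionRing.injective A0 L)
  have hreg : ∀ a : A1, a ≠ 0 → ∀ t : T, (a ⊗ₜ[A] (1 : A0)) * t = 0 → t = 0 := by
    intro a ha t ht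
    let μ : A1 →ₗ[A] A1 := (LinearMap.mulLeft A1 a).restrictScalars A
    have hK : Function.Injective (μ.lTensor K) :=
      Module.Flat.lTensor_preserves_injective_linearMap μ (mul_right_injective₀ ha)
    have hK' : Function.Injective (μ.baseChange K) := hK
    have hL : Function.Injective ((μ.baseChange K).lTensor L) :=
      Module.Flat.lTensor_preserves_injective_linearMap _ hK'
    let e := AlgebraTensorModule.cancelBaseChange A K L L A1
    have hcomm : ∀ z, μ.lTensor L (e z) = e ((μ.baseChange K).lTensor L z) := by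
      intro z
      induction z with
      | zero => simp
      | add x y hx hy => rw [map_add, map_add, hx, hy, map_add, map_add]
      | tmul l w =>
        induction w with
        | zero => simp
        | add x y hx hy => rw [tmul_add, map_add, map_add, hx, hy, map_add, map_add]
        | tmul k c => simp [e, AlgebraTensorModule.cancelBaseChange_tmul]
    have hLA : Function.Injective (μ.lTensor L) := by
      intro x y hxy
      obtain ⟨x, rfl⟩ := e.surjective x
      obtain ⟨y, rfl⟩ := e.surjective y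
      rw [hcomm, hcomm] at hxy
      rw [hL (e.injective hxy)]
    refine hj ?_
    rw [map_zero]
    have h0 : (a ⊗ₜ[A] (1 : L)) * j t = 0 := by
      have := congrArg j ht
      rw [map_mul, map_zero, show j (a ⊗ₜ[A] (1 : A0)) = a ⊗ₜ[A] (1 : L) by
        show (AlgHom.id A A1 a) ⊗ₜ[A] (algebraMap A0 L 1) = _
        rw [map_one]; rfl] at this
      exact this
    have hμ : ∀ z : A1 ⊗[A] L, μ.lTensor L (TensorProduct.comm A A1 L z) =
        TensorProduct.comm A A1 L ((a ⊗ₜ[A] (1 : L)) * z) := by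
      intro z
      induction z with
      | zero => simp
      | add x y hx hy => rw [map_add, map_add, hx, hy, mul_add, map_add]
      | tmul c l => simp [μ, Algebra.TensorProduct.tmul_mul_tmul]
    refine (TensorProduct.comm A A1 L).injective ?_
    rw [map_zero]
    refine hLA ?_
    rw [hμ, h0, map_zero, map_zero]
  -- the point
  have hp0le : ∀ a ∈ p0, φ' a = 0 := fun a ha => by
    have : a ∈ RingHom.ker φ' := h' ▸ le_maximalIdeal hp0.ne_top ha
    exact this
  let φ0 : A0 →ₐ[A] Ω := Ideal.Quotient.liftₐ p0 φ' hp0le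
  let χ : T →ₐ[A] Ω := Algebra.TensorProduct.lift φ1 φ0 fun _ _ => .all _ _
  let r : Ideal T := RingHom.ker χ.toRingHom
  haveI : r.IsPrime := RingHom.ker_isPrime _
  let A'' := Localization.AtPrime r
  let χl : A'' →ₐ[A] Ω := IsLocalization.liftAlgHom (M := r.primeCompl) (f := χ) fun y =>
    IsUnit.mk0 _ fun h0 => y.2 h0
  have hker : RingHom.ker χl = maximalIdeal A'' := by
    refine le_antisymm (le_maximalIdeal (RingHom.ker_ne_top _)) fun z hz => ?_
    obtain ⟨t, s, rfl⟩ := IsLocalization.exists_mk'_eq r.primeCompl z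
    rw [IsLocalization.AtPrime.mk'_mem_maximal_iff (S := A'') (I := r)] at hz
    have hspec := congrArg χl (IsLocalization.mk'_spec A'' t s)
    rw [map_mul] at hspec
    have hl : ∀ y : T, χl (algebraMap T A'' y) = χ y := fun y => by
      exact IsLocalization.lift_eq (M := r.primeCompl) (S := A'') _ y
    rw [hl, hl] at hspec
    have ht : χ t = 0 := hz
    rw [ht] at hspec
    exact (mul_eq_zero.mp hspec).resolve_right fun h0 => s.2 h0
  letI : Algebra A' A'' := ((algebraMap T A'').comp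
    ((Algebra.TensorProduct.includeRight : A0 →ₐ[A] T).toRingHom.comp (Ideal.Quotient.mk p0))).toAlgebra
  haveI : IsScalarTower A A1 A'' := inferInstance
  haveI : IsScalarTower A A' A'' := IsScalarTower.of_algebraMap_eq (R := A) (S := A') (A := A'') fun x => by
    show _ = algebraMap T A'' ((Algebra.TensorProduct.includeRight : A0 →ₐ[A] T) (algebraMap A A0 x))
    rw [AlgHom.commutes, ← IsScalarTower.algebraMap_apply A T A'']
  have e1 : ∀ x, χl (algebraMap A1 A'' x) = φ1 x := fun x => by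
    show χl (algebraMap T A'' (x ⊗ₜ[A] (1 : A0))) = _
    refine (IsLocalization.lift_eq (M := r.primeCompl) (S := A'') _ _).trans ?_
    show χ (x ⊗ₜ[A] 1) = _
    exact (Algebra.TensorProduct.lift_tmul _ _ _ x (1 : A0)).trans (by rw [map_one, mul_one])
  have e2 : ∀ x, χl (algebraMap A' A'' x) = φ' x := fun x => by
    show χl (algebraMap T A'' ((1 : A1) ⊗ₜ[A] Ideal.Quotient.mk p0 x)) = _
    refine (IsLocalization.lift_eq (M := r.primeCompl) (S := A'') _ _).trans ?_
    show χ ((1 : A1) ⊗ₜ[A] Ideal.Quotient.mk p0 x) = _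
    refine (Algebra.TensorProduct.lift_tmul _ _ _ (1 : A1) (Ideal.Quotient.mk p0 x)).trans ?_
    rw [map_one, one_mul]
    rfl
  have hl1 : IsLocalHom (algebraMap A1 A'') := ⟨fun x hx => by
    by_contra hn
    have hm : x ∈ RingHom.ker φ1 := h1 ▸ hn
    have : algebraMap A1 A'' x ∈ maximalIdeal A'' := hker ▸ (show χl _ = 0 by rw [e1]; exact hm)
    exact this hx⟩
  have hl' : IsLocalHom (algebraMap A' A'') := ⟨fun x hx => by
    by_contra hn
    have hm : x ∈ RingHom.ker φ' := h' ▸ hn
    have : algebraMap A' A'' x ∈ maximalIdeal A'' := hker ▸ (show χl _ = 0 by rw [e2]; exact hm)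
    exact this hx⟩
  refine ⟨A'', inferInstance, inferInstance, inferInstance, inferInstance, inferInstance, inferInstance,
    inferInstance, hl1, hl', χl, ?_, hker, e1, e2⟩
  rw [injective_iff_map_eq_zero]
  intro a ha
  by_contra hne
  obtain ⟨s, hs⟩ := (IsLocalization.map_eq_zero_iff r.primeCompl A'' (a ⊗ₜ[A] (1 : A0))).mp ha
  exact s.2 (by rw [hreg a hne s.1 (by rw [mul_comm]; exact hs)]; exact zero_mem _)

variable {A A1 A' A'' S : Type u} [CommRing A] [CommRing A1] [CommRing A'] [CommRing A''] [CommRing S]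
  [Algebra A A1] [Algebra A A'] [Algebra A A''] [Algebra A1 A''] [Algebra A' A''] [Algebra A S]
  [IsScalarTower A A1 A''] [IsScalarTower A A' A'']

/-- The comparison of the two base changes. -/
noncomputable def cmp (A A1 A' A'' S : Type u) [CommRing A] [CommRing A1] [CommRing A'] [CommRing A''] [CommRing S]
    [Algebra A A1] [Algebra A A'] [Algebra A A''] [Algebra A1 A''] [Algebra A' A''] [Algebra A S]
    [IsScalarTower A A1 A''] [IsScalarTower A A' A''] :
    A' ⊗[A] S →ₐ[A] A'' ⊗[A1] (A1 ⊗[A] S) :=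
  Algebra.TensorProduct.lift
    (((Algebra.TensorProduct.includeLeft : A'' →ₐ[A1] A'' ⊗[A1] (A1 ⊗[A] S)).restrictScalars A).comp
      (IsScalarTower.toAlgHom A A' A''))
    (((Algebra.TensorProduct.includeRight : A1 ⊗[A] S →ₐ[A1] A'' ⊗[A1] (A1 ⊗[A] S)).restrictScalars A).comp
      Algebra.TensorProduct.includeRight) fun _ _ => .all _ _

attribute [local instance] Algebra.TensorProduct.rightAlgebra in
set_option maxHeartbeats 1600000 in
/-- Flatness passes from the first base change to the second. -/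
theorem pred_of_flatAt (Q : Ideal (A'' ⊗[A1] (A1 ⊗[A] S))) [Q.IsPrime]
    (h : FlatCA.FlatAt A' (Q.comap (cmp A A1 A' A'' S).toRingHom) (A' ⊗[A] S)) :
    letI := TensorAction.tModule (A := A1) (A' := A'') (A1 ⊗[A] S) (A1 ⊗[A] S)
    FlatPred.Pred A'' Q.primeCompl (A'' ⊗[A1] (A1 ⊗[A] S)) := by
  let B1 := A1 ⊗[A] S
  let T := A'' ⊗[A1] B1
  let Φ := cmp A A1 A' A'' S
  letI iΦ : Algebra (A' ⊗[A] S) T := Φ.toRingHom.toAlgebra
  letI : Algebra S T := ((algebraMap B1 T).comp (algebraMap S B1)).toAlgebra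
  haveI : IsScalarTower S B1 T := .of_algebraMap_eq' rfl
  haveI : IsScalarTower A S T := .of_algebraMap_eq fun x => by
    show _ = (1 : A'') ⊗ₜ[A1] ((1 : A1) ⊗ₜ[A] algebraMap A S x)
    exact (((Algebra.TensorProduct.includeRight : B1 →ₐ[A1] T).restrictScalars A).comp
      (Algebra.TensorProduct.includeRight : S →ₐ[A] B1)).commutes x |>.symm
  haveI : IsScalarTower A A' T := inferInstance
  haveI : IsScalarTower A' (A' ⊗[A] S) T := .of_algebraMap_eq fun a => by
    show (algebraMap A' A'' a) ⊗ₜ[A1] (1 : B1) = Φ (a ⊗ₜ[A] 1)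
    simp [Φ, cmp, B1, Algebra.TensorProduct.one_def]
  haveI : IsScalarTower S (A' ⊗[A] S) T := .of_algebraMap_eq fun s => by
    show (1 : A'') ⊗ₜ[A1] ((1 : A1) ⊗ₜ[A] s) = Φ ((1 : A') ⊗ₜ[A] s)
    simp [Φ, cmp]
  haveI : Algebra.IsPushout A S A1 B1 := Algebra.IsPushout.symm inferInstance
  haveI : Algebra.IsPushout A1 B1 A'' T := Algebra.IsPushout.symm inferInstance
  haveI : Algebra.IsPushout A S A' (A' ⊗[A] S) := Algebra.IsPushout.symm inferInstance
  haveI : Algebra.IsPushout A A1 S B1 := inferInstance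
  haveI : Algebra.IsPushout A1 A'' B1 T := inferInstance
  haveI : IsScalarTower A B1 T := .of_algebraMap_eq fun x =>
    (((Algebra.TensorProduct.includeRight : B1 →ₐ[A1] T).restrictScalars A).commutes x).symm
  haveI hp : Algebra.IsPushout A S A'' T :=
    ((Algebra.IsPushout.comp_iff A A1 S (T := A'') (S' := B1) (T' := T)).2 inferInstance).symm
  haveI : Algebra.IsPushout A' (A' ⊗[A] S) A'' T := Groth.Flatmor4.isPushout_cancel (R := A) (R' := S)
  have hflat : @FlatCA.FlatAt A'' T _ _ _ Q _ T _ Semiring.toModule Algebra.toModule _ :=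
    Groth.FlatmorThree.flatAt_baseChange (M := A' ⊗[A] S) (Algebra.linearMap (A' ⊗[A] S) T)
      (IsBaseChange.linearMap (A' ⊗[A] S) T) (Q.comap Φ.toRingHom) Q rfl h
  have hP := (@FlatPred.flatAt_iff A'' _ T _ T _ Semiring.toModule Algebra.toModule _ _ Q _).mp hflat
  refine @FlatPred.Pred.of_equiv A'' _ T _ T _ Semiring.toModule Algebra.toModule _ IsScalarTower.right Q.primeCompl T _
    (TensorAction.tModule (A := A1) (A' := A'') B1 B1) leftModule (AddEquiv.refl T) ?_ ?_ hP
  · intro r m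
    rfl
  · intro w m
    simp only [AddEquiv.refl_apply]
    let tm : Module T T := TensorAction.tModule (A := A1) (A' := A'') B1 B1
    suffices key : ∀ w m : T, w * m = @HSMul.hSMul T T T (@instHSMul T T tm.toSMul) w m from key w m
    clear w m
    intro w m
    induction w using TensorProduct.induction_on with
    | zero => exact (zero_mul m).trans (@zero_smul T T _ _ tm.toMulActionWithZero.toSMulWithZero m).symm
    | add v w hv hw => exact (add_mul v w m).trans ((congrArg₂ (· + ·) hv hw).trans (@add_smul T T _ _ tm v w m).symm)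
    | tmul a b =>
      induction m using TensorProduct.induction_on with
      | zero => exact (mul_zero _).trans (@smul_zero T T _ tm.toDistribMulAction.toDistribSMul.toSMulZeroClass _).symm
      | add x y hx hy => exact (mul_add _ x y).trans ((congrArg₂ (· + ·) hx hy).trans (@smul_add T T _ tm.toDistribMulAction.toDistribSMul _ x y).symm)
      | tmul c d =>
        show (a ⊗ₜ[A1] b) * (c ⊗ₜ[A1] d) = _
        rw [TensorAction.tmul_smul_tmul, Algebra.TensorProduct.tmul_mul_tmul]
        rfl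

variable (A1 A' A'') in
theorem comap_cmp_left [IsLocalRing A'] [IsLocalRing A''] [IsLocalHom (algebraMap A' A'')]
    (Q : Ideal (A'' ⊗[A1] (A1 ⊗[A] S))) (hQ : Q.comap (algebraMap A'' _) = maximalIdeal A'') :
    (Q.comap (cmp A A1 A' A'' S).toRingHom).comap (algebraMap A' (A' ⊗[A] S)) = maximalIdeal A' := by
  rw [← maximalIdeal_comap (algebraMap A' A''), ← hQ]
  ext a
  simp [cmp, Algebra.TensorProduct.algebraMap_apply, Algebra.TensorProduct.one_def]

theorem comap_cmp_right (Q : Ideal (A'' ⊗[A1] (A1 ⊗[A] S))) :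
    (Q.comap (cmp A A1 A' A'' S).toRingHom).comap (Algebra.TensorProduct.includeRight : S →ₐ[A] A' ⊗[A] S) =
      (Q.comap (Algebra.TensorProduct.includeRight : A1 ⊗[A] S →ₐ[A1] A'' ⊗[A1] (A1 ⊗[A] S))).comap
        (Algebra.TensorProduct.includeRight : S →ₐ[A] A1 ⊗[A] S) := by
  ext s
  simp [cmp]

section main

variable {A A1 A' S : Type u} [CommRing A] [IsDomain A] [IsLocalRing A] [CommRing A1] [IsDomain A1]
  [HenselianLocalRing A1] [Algebra A A1] [IsLocalHom (algebraMap A A1)] [Module.Flat A A1] [CommRing A'] [IsLocalRing A']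
  [Algebra A A'] [IsLocalHom (algebraMap A A')] [CommRing S] [Algebra A S] [Algebra.FiniteType A S]

attribute [local instance] Algebra.TensorProduct.rightAlgebra in
/-- Descent of flatness at a point to the original ring. -/
theorem flatAt_descend_left (q : Ideal S) [q.IsPrime] (q1 : Ideal (A1 ⊗[A] S)) [q1.IsPrime]
    (hq : q1.comap (Algebra.TensorProduct.includeRight : S →ₐ[A] A1 ⊗[A] S) = q)
    (hm : q1.comap (algebraMap A1 (A1 ⊗[A] S)) = maximalIdeal A1)
    (h : FlatCA.FlatAt A1 q1 (A1 ⊗[A] S)) : FlatCA.FlatAt A q S := by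
  haveI : Algebra.IsPushout A S A1 (A1 ⊗[A] S) := Algebra.IsPushout.symm inferInstance
  haveI : Module.Flat A1 (Localization.AtPrime (maximalIdeal A1)) :=
    IsLocalization.flat _ (maximalIdeal A1).primeCompl
  exact Groth.FlatmorThree.flatAt_descend (M := S) (Algebra.linearMap S (A1 ⊗[A] S))
    (IsBaseChange.linearMap S (A1 ⊗[A] S)) q q1 hq (maximalIdeal A1) hm
    (Module.Flat.trans A A1 _) h

theorem exists_point_data (hinj : Function.Injective (algebraMap A A'))
    (q : Ideal S) [q.IsPrime] [hq : q.LiesOver (maximalIdeal A)] (Q' : Ideal (A' ⊗[A] S)) [Q'.IsPrime]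
    (h1 : Q'.comap (algebraMap A' (A' ⊗[A] S)) = maximalIdeal A')
    (h2 : Q'.comap (Algebra.TensorProduct.includeRight : S →ₐ[A] A' ⊗[A] S) = q) :
    ∃ (A'' : Type u) (_ : CommRing A'') (_ : IsLocalRing A'') (_ : Algebra A1 A'') (_ : Algebra A' A'')
      (_ : Algebra A A'') (_ : IsScalarTower A A1 A'') (_ : IsScalarTower A A' A'')
      (_ : IsLocalHom (algebraMap A1 A'')) (_ : IsLocalHom (algebraMap A' A''))
      (Q : Ideal (A'' ⊗[A1] (A1 ⊗[A] S))) (q1 : Ideal (A1 ⊗[A] S)) (_ : Q.IsPrime) (_ : q1.IsPrime),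
      Function.Injective (algebraMap A1 A'') ∧ q1.comap (algebraMap A1 (A1 ⊗[A] S)) = maximalIdeal A1 ∧
      q1.comap (Algebra.TensorProduct.includeRight : S →ₐ[A] A1 ⊗[A] S) = q ∧
      Q.comap (algebraMap A'' _) = maximalIdeal A'' ∧
      Q.comap (Algebra.TensorProduct.includeRight : A1 ⊗[A] S →ₐ[A1] A'' ⊗[A1] (A1 ⊗[A] S)) = q1 ∧
      Q.comap (cmp A A1 A' A'' S).toRingHom = Q' := by
  haveI : Q'.LiesOver (maximalIdeal A) := ⟨by
    rw [← maximalIdeal_comap (algebraMap A A'), ← h1, Ideal.under_def, Ideal.comap_comap, ← IsScalarTower.algebraMap_eq]⟩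
  haveI : (maximalIdeal A1).LiesOver (maximalIdeal A) := ⟨(maximalIdeal_comap (algebraMap A A1)).symm⟩
  obtain ⟨Ω, _, _, ι, φ1, hι, hφ1⟩ := exists_field_point (A := A) (maximalIdeal A) Q' (maximalIdeal A1)
  let φ' : A' →ₐ[A] Ω := ι.comp Algebra.TensorProduct.includeLeft
  let σ : S →ₐ[A] Ω := ι.comp Algebra.TensorProduct.includeRight
  have h' : RingHom.ker φ' = maximalIdeal A' := by
    rw [← h1, ← hι]; rfl
  obtain ⟨A'', _, _, _, _, _, _, _, _, _, ψ, hinj'', hψ, e1, e2⟩ := exists_dominating hinj φ1 φ' hφ1 h'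
  letI : Algebra A1 Ω := φ1.toRingHom.toAlgebra
  haveI : IsScalarTower A A1 Ω := .of_algebraMap_eq fun x => (φ1.commutes x).symm
  let ψ1 : A'' →ₐ[A1] Ω := { ψ.toRingHom with commutes' := e1 }
  let τ : A1 ⊗[A] S →ₐ[A1] Ω := Algebra.TensorProduct.lift (Algebra.ofId A1 Ω) σ fun _ _ => .all _ _
  let Θ : A'' ⊗[A1] (A1 ⊗[A] S) →ₐ[A1] Ω := Algebra.TensorProduct.lift ψ1 τ fun _ _ => .all _ _
  refine ⟨A'', inferInstance, inferInstance, inferInstance, inferInstance, inferInstance, inferInstance,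
    inferInstance, inferInstance, inferInstance, RingHom.ker Θ.toRingHom, RingHom.ker τ.toRingHom,
    RingHom.ker_isPrime _, RingHom.ker_isPrime _, hinj'', ?_, ?_, ?_, ?_, ?_⟩
  · rw [← hφ1]
    ext x
    show τ (algebraMap A1 _ x) = 0 ↔ φ1 x = 0
    rw [AlgHom.commutes]
    rfl
  · rw [← h2, ← hι]
    ext x
    show τ ((1 : A1) ⊗ₜ[A] x) = 0 ↔ σ x = 0
    simp [τ]
  · rw [← hψ]
    ext x
    show Θ (x ⊗ₜ[A1] (1 : A1 ⊗[A] S)) = 0 ↔ ψ x = 0
    simp only [Θ, Algebra.TensorProduct.lift_tmul, map_one, mul_one]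
    rfl
  · ext x
    show Θ ((1 : A'') ⊗ₜ[A1] x) = 0 ↔ τ x = 0
    simp only [Θ, Algebra.TensorProduct.lift_tmul, map_one, one_mul]
  · have hΘ : (Θ.restrictScalars A).comp (cmp A A1 A' A'' S) = ι := by
      refine Algebra.TensorProduct.ext ?_ ?_
      · ext a
        show Θ (cmp A A1 A' A'' S (a ⊗ₜ 1)) = φ' a
        simp only [cmp, Algebra.TensorProduct.lift_tmul, AlgHom.comp_apply, AlgHom.restrictScalars_apply,
          Algebra.TensorProduct.includeLeft_apply, IsScalarTower.coe_toAlgHom', map_one, mul_one, Θ]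
        exact e2 a
      · ext s
        show Θ (cmp A A1 A' A'' S (1 ⊗ₜ s)) = σ s
        simp only [cmp, Algebra.TensorProduct.lift_tmul, AlgHom.comp_apply, AlgHom.restrictScalars_apply,
          Algebra.TensorProduct.includeRight_apply, map_one, one_mul, Θ, τ]
    ext z
    show Θ (cmp A A1 A' A'' S z) = 0 ↔ z ∈ Q'
    rw [← hι, RingHom.mem_ker, ← hΘ]
    rfl

/-- Flatness at one point above descends, through a strictly henselian domain. -/
theorem flatAt_of_one_aux [IsSepClosed (ResidueField A1)] (hinj : Function.Injective (algebraMap A A'))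
    (q : Ideal S) [q.IsPrime] [q.LiesOver (maximalIdeal A)] (Q' : Ideal (A' ⊗[A] S)) [Q'.IsPrime]
    (h1 : Q'.comap (algebraMap A' (A' ⊗[A] S)) = maximalIdeal A')
    (h2 : Q'.comap (Algebra.TensorProduct.includeRight : S →ₐ[A] A' ⊗[A] S) = q)
    (h : FlatCA.FlatAt A' Q' (A' ⊗[A] S)) : FlatCA.FlatAt A q S := by
  obtain ⟨A'', _, _, _, _, _, _, _, _, _, Q, q1, _, _, hinj'', hq1, hq1S, hQ1, hQ2, hQ⟩ :=
    exists_point_data (A1 := A1) hinj q Q' h1 h2
  haveI : q1.LiesOver (maximalIdeal A1) := ⟨hq1.symm⟩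
  refine flatAt_descend_left q q1 hq1S hq1 (flatAt_of_somewhere (A1 ⊗[A] S) q1 hinj'' ?_)
  refine ⟨Q, inferInstance, hQ1, hQ2, pred_of_flatAt (A1 := A1) (A' := A') (S := S) Q ?_⟩
  simp only [hQ]
  exact h

/-- Flatness at all points above descends, through a henselian domain. -/
theorem flatAt_of_all_aux (A1 : Type u) [CommRing A1] [IsDomain A1] [HenselianLocalRing A1] [Algebra A A1]
    [IsLocalHom (algebraMap A A1)] [Module.Flat A A1] (hinj : Function.Injective (algebraMap A A'))
    (q : Ideal S) [q.IsPrime] [q.LiesOver (maximalIdeal A)]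
    (h : ∀ (Q' : Ideal (A' ⊗[A] S)) [Q'.IsPrime], Q'.comap (algebraMap A' (A' ⊗[A] S)) = maximalIdeal A' →
      Q'.comap (Algebra.TensorProduct.includeRight : S →ₐ[A] A' ⊗[A] S) = q → FlatCA.FlatAt A' Q' (A' ⊗[A] S)) :
    FlatCA.FlatAt A q S := by
  haveI : (maximalIdeal A').LiesOver (maximalIdeal A) := ⟨(maximalIdeal_comap (algebraMap A A')).symm⟩
  obtain ⟨Q'0, hQ'0, h1, h2⟩ : ∃ (Q'0 : Ideal (A' ⊗[A] S)), Q'0.IsPrime ∧
      Q'0.comap (algebraMap A' (A' ⊗[A] S)) = maximalIdeal A' ∧
      Q'0.comap (Algebra.TensorProduct.includeRight : S →ₐ[A] A' ⊗[A] S) = q := by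
    obtain ⟨Ω, _, _, ι, φ, hι, hφ⟩ := exists_field_point (A := A) (maximalIdeal A) q (maximalIdeal A')
    refine ⟨pointTensor ι φ, inferInstance, (pointTensor_liesOver ι φ _ hφ).over.symm, ?_⟩
    ext b
    simp [pointTensor, ← hι, RingHom.mem_ker]
  haveI := hQ'0
  obtain ⟨A'', _, _, _, _, _, _, _, _, _, Q, q1, _, _, hinj'', hq1, hq1S, hQ1, hQ2, hQ⟩ :=
    exists_point_data (A1 := A1) hinj q Q'0 h1 h2
  haveI : q1.LiesOver (maximalIdeal A1) := ⟨hq1.symm⟩
  refine flatAt_descend_left q q1 hq1S hq1 (flatAt_of_above (A1 ⊗[A] S) q1 hinj'' ?_)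
  intro R _ hR1 hR2
  refine pred_of_flatAt R (h _ (comap_cmp_left A1 A' A'' R hR1) ?_)
  rw [comap_cmp_right, hR2, hq1S]

end main

/-- **Descent of flatness from one point**, geometrically unibranch domain. -/
theorem flatAt_of_one {A A' S : Type u} [CommRing A] [IsDomain A] [IsLocalRing A] (hA : CAlg2.IsGeomUnibranch A)
    [CommRing A'] [IsLocalRing A'] [Algebra A A'] [IsLocalHom (algebraMap A A')] [CommRing S] [Algebra A S]
    [Algebra.FiniteType A S] (hinj : Function.Injective (algebraMap A A'))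
    (q : Ideal S) [q.IsPrime] [q.LiesOver (maximalIdeal A)] (Q' : Ideal (A' ⊗[A] S)) [Q'.IsPrime]
    (h1 : Q'.comap (algebraMap A' (A' ⊗[A] S)) = maximalIdeal A')
    (h2 : Q'.comap (Algebra.TensorProduct.includeRight : S →ₐ[A] A' ⊗[A] S) = q)
    (h : FlatCA.FlatAt A' Q' (A' ⊗[A] S)) : FlatCA.FlatAt A q S := by
  obtain ⟨A1, _, _, _, _, hA1⟩ := Groth.Hensel1.exists_isStrictHenselization A
  haveI := hA1
  haveI : IsDomain A1 := (Groth.Agent.S2750.result A A1).mp ⟨inferInstance, hA⟩
  haveI : HenselianLocalRing A1 := hA1.henselian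
  haveI : IsSepClosed (ResidueField A1) := hA1.isSepClosure.sep_closed
  haveI : Module.FaithfullyFlat A A1 := Groth.Agent.S0539.result A A1
  exact flatAt_of_one_aux (A1 := A1) hinj q Q' h1 h2 h

/-- **Descent of flatness from all points**, unibranch domain. -/
theorem flatAt_of_all {A A' S : Type u} [CommRing A] [IsDomain A] [IsLocalRing A] (hA : CAlg2.IsUnibranch A)
    [CommRing A'] [IsLocalRing A'] [Algebra A A'] [IsLocalHom (algebraMap A A')] [CommRing S] [Algebra A S]
    [Algebra.FiniteType A S] (hinj : Function.Injective (algebraMap A A'))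
    (q : Ideal S) [q.IsPrime] [q.LiesOver (maximalIdeal A)]
    (h : ∀ (Q' : Ideal (A' ⊗[A] S)) [Q'.IsPrime], Q'.comap (algebraMap A' (A' ⊗[A] S)) = maximalIdeal A' →
      Q'.comap (Algebra.TensorProduct.includeRight : S →ₐ[A] A' ⊗[A] S) = q → FlatCA.FlatAt A' Q' (A' ⊗[A] S)) :
    FlatCA.FlatAt A q S := by
  obtain ⟨A1, _, _, _, _, hA1⟩ := Groth.Agent.S0506.result A
  haveI := hA1
  haveI : IsDomain A1 := (Groth.Agent.S2749.result A A1).mp ⟨inferInstance, hA⟩
  haveI : HenselianLocalRing A1 := hA1.henselian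
  haveI : Module.FaithfullyFlat A A1 := Groth.Agent.S0509.result A A1
  exact flatAt_of_all_aux A1 hinj q h

end Groth.EGA43Desc
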