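import Groth.Agent.RaynaudGruson.FlatLocusHensel
import Groth.Agent.Calg1.SepClosedTensor
import Mathlib

/-!
# Flatness above some point along a dévissage over a strictly local base
-/

set_option autoImplicit false
set_option linter.style.haveILetI false
universe u

open TensorProduct IsLocalRing

namespace Groth.EGA43Desc

open Groth.RaynaudGruson Groth.RaynaudGruson.TensorAction

attribute [local instance] TensorAction.tModule

variable {A A' : Type u} [CommRing A] [CommRing A'] [Algebra A A']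

/-- `A' ⊗ M` is flat over `A'` at some point over `m'` and `q`. -/
def Somewhere (A : Type u) [CommRing A] [Algebra A A'] (m' : Ideal A') {B : Type u} [CommRing B] [Algebra A B]
    (q : Ideal B) (M : Type u) [AddCommGroup M] [Module B M] [Module A M] [IsScalarTower A B M] : Prop :=
  ∃ (Q : Ideal (A' ⊗[A] B)) (_ : Q.IsPrime), Q.comap (algebraMap A' (A' ⊗[A] B)) = m' ∧
    Q.comap (Algebra.TensorProduct.includeRight : B →ₐ[A] A' ⊗[A] B) = q ∧
    FlatPred.Pred A' Q.primeCompl (A' ⊗[A] M)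

/-- Over a separably closed residue field the points over two closed points have a least element. -/
theorem exists_least_point [IsLocalRing A] [IsSepClosed (ResidueField A)] [IsLocalRing A']
    [IsLocalHom (algebraMap A A')] {B : Type u} [CommRing B] [Algebra A B] (q : Ideal B) [q.IsPrime]
    [hq : q.LiesOver (maximalIdeal A)] :
    ∃ Q0 : Ideal (A' ⊗[A] B), Q0.IsPrime ∧ Q0.comap (algebraMap A' (A' ⊗[A] B)) = maximalIdeal A' ∧
      Q0.comap (Algebra.TensorProduct.includeRight : B →ₐ[A] A' ⊗[A] B) = q ∧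
      ∀ Q : Ideal (A' ⊗[A] B), Q.IsPrime → Q.comap (algebraMap A' (A' ⊗[A] B)) = maximalIdeal A' →
        Q.comap (Algebra.TensorProduct.includeRight : B →ₐ[A] A' ⊗[A] B) = q → Q0 ≤ Q := by
  let k := ResidueField A
  let k' := ResidueField A'
  let K := q.ResidueField
  let i : k →+* K := Ideal.Quotient.lift (maximalIdeal A) (algebraMap A K) fun a ha => by
    rw [IsScalarTower.algebraMap_apply A B K, Ideal.algebraMap_residueField_eq_zero]
    exact (Ideal.mem_of_liesOver q (maximalIdeal A) a).mp ha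
  letI : Algebra k K := i.toAlgebra
  haveI : IsScalarTower A k K := .of_algebraMap_eq fun _ => rfl
  let l : A' →ₐ[A] k' ⊗[k] K :=
    ((Algebra.TensorProduct.includeLeft : k' →ₐ[k] k' ⊗[k] K).restrictScalars A).comp
      (IsScalarTower.toAlgHom A A' k')
  let r : B →ₐ[A] k' ⊗[k] K :=
    ((Algebra.TensorProduct.includeRight : K →ₐ[k] k' ⊗[k] K).restrictScalars A).comp
      (IsScalarTower.toAlgHom A B K)
  let ψ : A' ⊗[A] B →ₐ[A] k' ⊗[k] K := Algebra.TensorProduct.lift l r fun _ _ => .all _ _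
  have hu : CAlgX.HasUniqueMinimalPrime (k' ⊗[k] K) := by
    refine Groth.Calg1.hasUniqueMinimalPrime_tensor ?_ ?_
    · exact ⟨⊥, by simp [IsDomain.minimalPrimes_eq_singleton_bot], fun Q hQ => by
        simpa [IsDomain.minimalPrimes_eq_singleton_bot] using hQ⟩
    · exact ⟨⊥, by simp [IsDomain.minimalPrimes_eq_singleton_bot], fun Q hQ => by
        simpa [IsDomain.minimalPrimes_eq_singleton_bot] using hQ⟩
  obtain ⟨P, hP, hPu⟩ := hu
  haveI hPp := Ideal.minimalPrimes_isPrime hP
  have hPnil : ∀ z ∈ P, IsNilpotent z := by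
    intro z hz
    rw [nilpotent_iff_mem_prime]
    intro J hJ
    obtain ⟨P', hP', hle⟩ := Ideal.exists_minimalPrimes_le (I := (⊥ : Ideal (k' ⊗[k] K))) (J := J) bot_le
    rw [hPu P' hP'] at hle
    exact hle hz
  refine ⟨P.comap ψ.toRingHom, inferInstance, ?_, ?_, ?_⟩
  · ext a
    simp only [Ideal.mem_comap, AlgHom.toRingHom_eq_coe, RingHom.coe_coe,
      Algebra.TensorProduct.algebraMap_apply, Algebra.algebraMap_self, RingHom.id_apply]
    rw [Algebra.TensorProduct.lift_tmul, map_one, mul_one]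
    show ((algebraMap A' k' a) ⊗ₜ[k] (1 : K)) ∈ P ↔ _
    rw [← Algebra.TensorProduct.includeLeft_apply (R := k) (S := k) (A := k') (B := K), ← Ideal.mem_comap]
    rw [(Ideal.eq_bot_of_prime (P.comap (Algebra.TensorProduct.includeLeft : k' →ₐ[k] k' ⊗[k] K))),
      Ideal.mem_bot]
    exact residue_eq_zero_iff a
  · ext b
    simp only [Ideal.mem_comap, AlgHom.toRingHom_eq_coe, RingHom.coe_coe,
      Algebra.TensorProduct.includeRight_apply]
    rw [Algebra.TensorProduct.lift_tmul, map_one, one_mul]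
    show ((1 : k') ⊗ₜ[k] algebraMap B K b) ∈ P ↔ _
    rw [← Algebra.TensorProduct.includeRight_apply (R := k) (A := k') (B := K), ← Ideal.mem_comap]
    rw [(Ideal.eq_bot_of_prime (P.comap (Algebra.TensorProduct.includeRight : K →ₐ[k] k' ⊗[k] K))),
      Ideal.mem_bot]
    exact Ideal.algebraMap_residueField_eq_zero
  · intro Q hQ h1 h2 z hz
    haveI := hQ
    let Ω := Q.ResidueField
    let ρ : A' ⊗[A] B →ₐ[A] Ω := IsScalarTower.toAlgHom A _ Ω
    have hρ : ∀ x, ρ x = 0 ↔ x ∈ Q := fun x => Ideal.algebraMap_residueField_eq_zero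
    let gl : A' →ₐ[A] Ω := ρ.comp Algebra.TensorProduct.includeLeft
    let gr : B →ₐ[A] Ω := ρ.comp Algebra.TensorProduct.includeRight
    let iΩ : k →+* Ω := Ideal.Quotient.lift (maximalIdeal A) (algebraMap A Ω) fun a ha => by
      rw [← gl.commutes a]
      refine (hρ _).mpr ?_
      have : algebraMap A A' a ∈ maximalIdeal A' := map_nonunit _ a ha
      rw [← h1] at this
      exact this
    letI : Algebra k Ω := iΩ.toAlgebra
    haveI : IsScalarTower A k Ω := .of_algebraMap_eq fun _ => rfl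
    let gl0 : k' →+* Ω := Ideal.Quotient.lift (maximalIdeal A') gl.toRingHom fun a ha => by
      refine (hρ _).mpr ?_
      rw [← h1] at ha
      exact ha
    let gl' : k' →ₐ[k] Ω := { gl0 with
      commutes' := fun x => by
        obtain ⟨a, rfl⟩ := Ideal.Quotient.mk_surjective x
        exact gl.commutes a }
    have hker : ∀ b, b ∈ q ↔ gr b = 0 := fun b => by
      rw [← h2]; exact ((hρ _).symm)
    let gr0 : K →+* Ω := Ideal.ResidueField.lift q gr.toRingHom (fun b hb => (hker b).mp hb)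
      (fun b hb => IsUnit.mk0 _ fun h0 => hb ((hker b).mpr h0))
    let gr' : K →ₐ[k] Ω := { gr0 with
      commutes' := fun x => by
        obtain ⟨a, rfl⟩ := Ideal.Quotient.mk_surjective x
        show gr0 (algebraMap A K a) = algebraMap A Ω a
        rw [IsScalarTower.algebraMap_apply A B K]
        show gr0 (algebraMap B K (algebraMap A B a)) = _
        rw [Ideal.ResidueField.lift_algebraMap]
        exact gr.commutes a }
    let G : k' ⊗[k] K →ₐ[k] Ω := Algebra.TensorProduct.lift gl' gr' fun _ _ => .all _ _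
    have hG : (G.restrictScalars A).comp ψ = ρ := by
      refine Algebra.TensorProduct.ext ?_ ?_
      · ext a
        show G (ψ (a ⊗ₜ 1)) = ρ (a ⊗ₜ 1)
        rw [Algebra.TensorProduct.lift_tmul, map_one, mul_one]
        show G ((algebraMap A' k' a) ⊗ₜ[k] (1 : K)) = _
        rw [Algebra.TensorProduct.lift_tmul, map_one, mul_one]
        rfl
      · ext b
        show G (ψ (1 ⊗ₜ b)) = ρ (1 ⊗ₜ b)
        rw [Algebra.TensorProduct.lift_tmul, map_one, one_mul]
        show G ((1 : k') ⊗ₜ[k] algebraMap B K b) = _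
        rw [Algebra.TensorProduct.lift_tmul, map_one, one_mul]
        exact Ideal.ResidueField.lift_algebraMap q gr.toRingHom (fun b hb => (hker b).mp hb) (fun b hb => IsUnit.mk0 _ fun h0 => hb ((hker b).mpr h0)) b
    refine (hρ z).mp ?_
    rw [← hG]
    exact ((hPnil _ hz).map G).eq_zero

section change

variable {B C : Type u} [CommRing B] [Algebra A B] [CommRing C] [Algebra A C] [Algebra B C] [IsScalarTower A B C]
  {M : Type u} [AddCommGroup M] [Module B M] [Module C M] [IsScalarTower B C M] [Module A M] [IsScalarTower A B M]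
  [IsScalarTower A C M] {qB : Ideal B} {qC : Ideal C}

/-- A point of the bigger ring over a point of the smaller one. -/
theorem Somewhere.up {m' : Ideal A'} [qC.IsPrime] (hq : qC.comap (algebraMap B C) = qB)
    (h : Somewhere A m' qB M) : Somewhere A m' qC M := by
  obtain ⟨Q, hQ, h1, h2, hflat⟩ := h
  haveI : qB.IsPrime := hq ▸ inferInstance
  letI : Algebra B (A' ⊗[A] B) := (Algebra.TensorProduct.includeRight : B →ₐ[A] A' ⊗[A] B).toRingHom.toAlgebra
  haveI : qC.LiesOver qB := ⟨hq.symm⟩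
  haveI : Q.LiesOver qB := ⟨h2.symm⟩
  obtain ⟨Ω, _, _, ι, φ, hι, hφ⟩ := exists_field_point (A := B) qB qC Q
  letI : Algebra A Ω := ((algebraMap B Ω).comp (algebraMap A B)).toAlgebra
  haveI : IsScalarTower A B Ω := .of_algebraMap_eq fun _ => rfl
  let φA : A' ⊗[A] B →ₐ[A] Ω :=
    { φ.toRingHom with
      commutes' := fun a => by
        show φ (algebraMap A (A' ⊗[A] B) a) = algebraMap B Ω (algebraMap A B a)
        rw [← (Algebra.TensorProduct.includeRight : B →ₐ[A] A' ⊗[A] B).commutes a]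
        exact φ.commutes (algebraMap A B a) }
  let Θ : A' ⊗[A] C →ₐ[A] Ω :=
    Algebra.TensorProduct.lift (φA.comp Algebra.TensorProduct.includeLeft) (ι.restrictScalars A) fun _ _ => .all _ _
  let G := Algebra.TensorProduct.map (AlgHom.id A A') (IsScalarTower.toAlgHom A B C)
  have hΘ : Θ.comp G = φA := by
    refine Algebra.TensorProduct.ext ?_ ?_
    · ext a
      show Θ (G (a ⊗ₜ 1)) = φA (a ⊗ₜ 1)
      simp only [G, Algebra.TensorProduct.map_tmul, AlgHom.id_apply, map_one, Θ,
        Algebra.TensorProduct.lift_tmul, mul_one]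
      rfl
    · ext b
      show Θ (G (1 ⊗ₜ b)) = φA (1 ⊗ₜ b)
      simp only [G, Algebra.TensorProduct.map_tmul, AlgHom.id_apply, Θ, map_one,
        Algebra.TensorProduct.lift_tmul, one_mul]
      show ι (algebraMap B C b) = φ (algebraMap B (A' ⊗[A] B) b)
      rw [AlgHom.commutes, AlgHom.commutes]
  have hker : (RingHom.ker Θ.toRingHom).comap G.toRingHom = Q := by
    rw [← hφ]
    ext z
    show Θ (G z) = 0 ↔ φ z = 0
    rw [← AlgHom.comp_apply, hΘ]
    rfl
  haveI : (RingHom.ker Θ.toRingHom).IsPrime := RingHom.ker_isPrime _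
  refine ⟨RingHom.ker Θ.toRingHom, inferInstance, ?_, ?_, ?_⟩
  · rw [← comap_map_left (B := B), hker, h1]
  · rw [← hι]
    ext c
    show Θ ((1 : A') ⊗ₜ[A] c) = 0 ↔ ι c = 0
    simp only [Θ, Algebra.TensorProduct.lift_tmul, map_one, one_mul]
    rfl
  · haveI : SMulCommClass (A' ⊗[A] B) (A' ⊗[A] C) (A' ⊗[A] M) := ⟨fun v w z => by
      rw [← map_smul_eq (C := C) v (w • z), ← map_smul_eq (C := C) v z, smul_comm]⟩
    refine hflat.of_dvd (V := (RingHom.ker Θ.toRingHom).primeCompl) fun u (hu : u ∈ Q.primeCompl) => ⟨G u, 1, fun hmem => hu (hker.le hmem), fun z => ?_⟩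
    rw [one_smul]
    exact (map_smul_eq u z).symm

/-- Flatness at some point above a prime alone over its contraction descends. -/
theorem Somewhere.down [IsLocalRing A] [IsSepClosed (ResidueField A)] [IsLocalRing A']
    [IsLocalHom (algebraMap A A')] [Algebra.IsIntegral B C] [qB.IsPrime] [qC.IsPrime] [qC.LiesOver qB]
    [qC.LiesOver (maximalIdeal A)]
    (huniq : ∀ (Q : Ideal C) [Q.IsPrime], Q.LiesOver qB → Q = qC) (h : Somewhere A (maximalIdeal A') qC M) :
    Somewhere A (maximalIdeal A') qB M := by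
  obtain ⟨Q, hQ, h1, h2, hflat⟩ := h
  obtain ⟨Q0, hQ0, h01, h02, hle⟩ := exists_least_point (A := A) (A' := A') qC
  haveI := hQ0
  have hflat0 : FlatPred.Pred A' Q0.primeCompl (A' ⊗[A] M) :=
    hflat.mono (U := Q.primeCompl) (V := Q0.primeCompl) fun v hv hm => hv (hle Q hQ h1 h2 hm)
  let G := Algebra.TensorProduct.map (AlgHom.id A A') (IsScalarTower.toAlgHom A B C)
  letI : Algebra (A' ⊗[A] B) (A' ⊗[A] C) := G.toRingHom.toAlgebra
  haveI : Algebra.IsIntegral (A' ⊗[A] B) (A' ⊗[A] C) := by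
    refine ⟨fun z => ?_⟩
    induction z with
    | zero => exact isIntegral_zero
    | add x y hx hy => exact hx.add hy
    | tmul r c =>
      rw [show r ⊗ₜ[A] c = algebraMap (A' ⊗[A] B) (A' ⊗[A] C) (r ⊗ₜ 1) * ((1 : A') ⊗ₜ c) by
        show _ = G (r ⊗ₜ 1) * _
        simp [G, Algebra.TensorProduct.tmul_mul_tmul]]
      refine isIntegral_algebraMap.mul ?_
      obtain ⟨p, hp, hpc⟩ := Algebra.IsIntegral.isIntegral (R := B) c
      refine ⟨p.map (Algebra.TensorProduct.includeRight : B →ₐ[A] A' ⊗[A] B).toRingHom, hp.map _, ?_⟩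
      rw [Polynomial.eval₂_map]
      have hcomp : (algebraMap (A' ⊗[A] B) (A' ⊗[A] C)).comp (Algebra.TensorProduct.includeRight : B →ₐ[A] A' ⊗[A] B).toRingHom =
          (Algebra.TensorProduct.includeRight : C →ₐ[A] A' ⊗[A] C).toRingHom.comp (algebraMap B C) := by
        ext b
        show G ((1 : A') ⊗ₜ b) = (1 : A') ⊗ₜ algebraMap B C b
        simp [G]
      rw [hcomp, show ((1 : A') ⊗ₜ[A] c) = (Algebra.TensorProduct.includeRight : C →ₐ[A] A' ⊗[A] C).toRingHom c from rfl,
        ← Polynomial.hom_eval₂, hpc, map_zero]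
  let y0 : Ideal (A' ⊗[A] B) := Q0.comap G.toRingHom
  haveI : y0.IsPrime := inferInstanceAs ((Q0.comap G.toRingHom).IsPrime)
  haveI : Q0.LiesOver y0 := ⟨rfl⟩
  have hy1 : y0.comap (algebraMap A' (A' ⊗[A] B)) = maximalIdeal A' := by
    rw [← h01]; exact comap_map_left Q0
  have hy2 : y0.comap (Algebra.TensorProduct.includeRight : B →ₐ[A] A' ⊗[A] B) = qB := by
    rw [Ideal.LiesOver.over (P := qC) (p := qB), ← h02]; exact comap_map_right Q0
  have huni0 : ∀ (Q1 : Ideal (A' ⊗[A] C)) [Q1.IsPrime], Q1.LiesOver y0 → Q1 = Q0 := by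
    intro Q1 _ hQ1
    have e : Q1.comap G.toRingHom = y0 := hQ1.over.symm
    have hle1 : Q0 ≤ Q1 := by
      refine hle Q1 inferInstance ?_ ?_
      · rw [← comap_map_left (B := B) Q1, e, hy1]
      · refine huniq _ ⟨?_⟩
        rw [← hy2, ← e]
        exact comap_map_right Q1
    by_contra hne
    obtain ⟨z, hz1, hz0⟩ := SetLike.exists_of_lt (lt_of_le_of_ne hle1 (Ne.symm hne))
    have hlt := Ideal.comap_lt_comap_of_integral_mem_sdiff (R := A' ⊗[A] B) hle1 ⟨hz1, hz0⟩
      (Algebra.IsIntegral.isIntegral z)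
    exact hlt.ne e.symm
  haveI : IsScalarTower (A' ⊗[A] B) (A' ⊗[A] C) (A' ⊗[A] M) :=
    IsScalarTower.of_algebraMap_smul fun w z => map_smul_eq w z
  haveI : SMulCommClass (A' ⊗[A] C) A' (A' ⊗[A] M) := inferInstance
  haveI : SMulCommClass (A' ⊗[A] B) A' (A' ⊗[A] M) := inferInstance
  exact ⟨y0, inferInstance, hy1, hy2, (FlatPred.pred_iff_of_unique y0 Q0 huni0).mp hflat0⟩

end change

/-- Transport along an isomorphism. -/
theorem Somewhere.of_equiv {m' : Ideal A'} {B : Type u} [CommRing B] [Algebra A B] {q : Ideal B}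
    {M N : Type u} [AddCommGroup M] [Module B M] [Module A M] [IsScalarTower A B M]
    [AddCommGroup N] [Module B N] [Module A N] [IsScalarTower A B N] (e : M ≃ₗ[B] N) (h : Somewhere A m' q M) :
    Somewhere A m' q N := by
  obtain ⟨Q, hQ, h1, h2, hflat⟩ := h
  exact ⟨Q, hQ, h1, h2, hflat.of_equiv (LinearEquiv.lTensor A' (e.restrictScalars A)).toAddEquiv
    (fun r z => by
      show (tMap e.toLinearMap : A' ⊗[A] M →ₗ[A' ⊗[A] B] _) (r • z) = r • (tMap e.toLinearMap : A' ⊗[A] M →ₗ[A' ⊗[A] B] _) z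
      exact LinearMap.map_smul_of_tower _ r z)
    (fun w z => (tMap e.toLinearMap : A' ⊗[A] M →ₗ[A' ⊗[A] B] _).map_smul w z)⟩

end Groth.EGA43Desc
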