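import Groth.Agent.EGA43Desc.Somewhere
import Groth.Agent.RaynaudGruson.ContentIdeal
import Mathlib

/-!
# A module with a dévissage over a strictly local base is flat if it is flat above some point
-/

set_option autoImplicit false
set_option linter.style.haveILetI false
universe u

open TensorProduct IsLocalRing

namespace Groth.EGA43Desc

open Groth.RaynaudGruson Groth.RaynaudGruson.TensorAction

attribute [local instance] TensorAction.tModule

section step

attribute [local instance] Algebra.TensorProduct.rightAlgebra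

variable {A A' : Type u} [CommRing A] [CommRing A'] [Algebra A A']

set_option maxHeartbeats 1600000 in
/-- One step of a dévissage at one point above: the free module injects and the cokernel stays flat there. -/
theorem step_somewhere [IsLocalRing A] [IsLocalRing A'] [IsLocalHom (algebraMap A A')] {B : Type u} [CommRing B]
    [Algebra A B] [Module.Free A B] [Algebra.Smooth A B]
    {M : Type u} [AddCommGroup M] [Module B M] [Module A M] [IsScalarTower A B M]
    (hgeo : FlatCA.GeomIrredFibres A B) [hP : ((maximalIdeal A).map (algebraMap A B)).IsPrime] [Module.Finite B M]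
    {r : ℕ} (α : (Fin r → B) →ₗ[B] M)
    (hbij : Function.Bijective (α.baseChange ((maximalIdeal A).map (algebraMap A B)).ResidueField))
    (qB : Ideal B) [qB.IsPrime] [qB.LiesOver (maximalIdeal A)]
    {L : Type u} [AddCommGroup L] [Module B L] [Module A L] [IsScalarTower A B L] (π : M →ₗ[B] L)
    (hπ : Function.Surjective π) (hex : Function.Exact α π)
    (h : Somewhere A (maximalIdeal A') qB M) :
    Function.Injective ((α.restrictScalars A).lTensor A') ∧ Somewhere A (maximalIdeal A') qB L := by
  classical
  let m := maximalIdeal A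
  let m' := maximalIdeal A'
  haveI hover : m'.LiesOver m := ⟨(IsLocalRing.maximalIdeal_comap _).symm⟩
  let B' := A' ⊗[A] B
  haveI : Algebra.IsPushout A A' B B' := inferInstance
  let P' : Ideal B' := m'.map (algebraMap A' B')
  haveI : P'.IsPrime := Groth.Flatmor4.isPrime_map_baseChange (R := A) (R' := A') (B := B) hgeo m'
  letI : Module B (A' ⊗[A] M) :=
    Module.compHom _ (Algebra.TensorProduct.includeRight : B →ₐ[A] A' ⊗[A] B).toRingHom
  haveI : IsScalarTower B B' (A' ⊗[A] M) := IsScalarTower.of_algebraMap_smul fun _ _ => rfl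
  let gY : M →ₗ[B] A' ⊗[A] M :=
    { toFun := fun m => (1 : A') ⊗ₜ[A] m
      map_add' := tmul_add _
      map_smul' := fun b m => by
        show (1 : A') ⊗ₜ[A] (b • m) = ((1 : A') ⊗ₜ[A] b) • ((1 : A') ⊗ₜ[A] m)
        simp }
  have hgY : IsBaseChange B' gY := isBaseChange_mk gY fun _ => rfl
  haveI : Module.Finite B' (A' ⊗[A] M) := Module.Finite.equiv hgY.equiv
  have hX := Groth.Flatmor4.isBaseChange_pi B B' r
  let α' : (Fin r → B') →ₗ[B'] A' ⊗[A] M := hX.lift (gY ∘ₗ α)
  have hc : ∀ x, α' (((Algebra.linearMap B B').compLeft (Fin r)) x) = gY (α x) := fun x => hX.lift_eq _ x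
  let Φ : A' ⊗[A] (Fin r → B) →ₗ[A'] (Fin r → B') := TensorProduct.piRightHom A A' A' (fun _ : Fin r => B)
  have hΦ : Function.Bijective Φ := (TensorProduct.piRight A A' A' (fun _ : Fin r => B)).bijective
  have hfac : ∀ z, α' (Φ z) = (α.restrictScalars A).lTensor A' z := by
    intro z
    induction z with
    | zero => simp
    | add x y hx hy => rw [map_add, map_add, hx, hy, map_add]
    | tmul c x =>
      have h1 : Φ (c ⊗ₜ x) = c • ((Algebra.linearMap B B').compLeft (Fin r)) x := by
        funext i
        simp only [Φ, TensorProduct.piRightHom_tmul, Pi.smul_apply, LinearMap.compLeft_apply, Function.comp_apply, Algebra.linearMap_apply]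
        show c ⊗ₜ[A] x i = c • ((1 : A') ⊗ₜ[A] x i)
        rw [smul_tmul', smul_eq_mul, mul_one]
      rw [h1, LinearMap.map_smul_of_tower, hc]
      show c • ((1 : A') ⊗ₜ[A] α x) = c ⊗ₜ[A] α x
      rw [smul_tmul', smul_eq_mul, mul_one]
  have hfib : Function.Bijective (α'.baseChange P'.ResidueField) := by
    let P₀ : Ideal B := m.map (algebraMap A B)
    have hund : P₀ = P'.under B := Groth.Flatmor4.map_eq_under_map_baseChange m m'
    letI : Algebra P₀.ResidueField P'.ResidueField :=
      (Ideal.ResidueField.mapₐ P₀ P' (Algebra.ofId B B') hund).toRingHom.toAlgebra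
    haveI : IsScalarTower B P₀.ResidueField P'.ResidueField := .of_algebraMap_eq fun x =>
      ((Ideal.ResidueField.mapₐ P₀ P' (Algebra.ofId B B') hund).commutes x).symm
    exact Groth.Flatmor4.bijective_baseChange_of_bijective (K := P₀.ResidueField) (L := P'.ResidueField) hX hgY α α' hc hbij
  obtain ⟨y, hy, hy1, hy2, hflat⟩ := h
  have hyP : y.primeCompl ≤ P'.primeCompl := fun b hb hmem =>
    hb ((Ideal.map_le_iff_le_comap.mpr hy1.ge) hmem)
  have hpredP : FlatPred.Pred A' P'.primeCompl (A' ⊗[A] M) := hflat.mono hyP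
  have hinj := DevissageFlat.injective P' α' rfl hfib hpredP
  refine ⟨fun x z hxz => hΦ.1 (hinj (by rw [hfac, hfac, hxz])), y, hy, hy1, hy2, ?_⟩
  have hexT : Function.Exact ((α.restrictScalars A).lTensor A') ((π.restrictScalars A).lTensor A') :=
    lTensor_exact A' hex hπ
  refine DevissageFlat.pred_coker P' α' rfl hfib hpredP (tMap π)
    (LinearMap.lTensor_surjective A' (g := π.restrictScalars A) hπ) ?_ hflat
  ext z
  constructor
  · intro hz
    obtain ⟨w, hw⟩ := (hexT z).mp hz
    exact ⟨Φ w, (hfac w).trans hw⟩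
  · rintro ⟨w, rfl⟩
    obtain ⟨w, rfl⟩ := hΦ.2 w
    rw [hfac]
    exact (hexT _).mpr ⟨w, rfl⟩

end step

variable {A : Type u} [CommRing A]

/-- A quotient by zero changes nothing. -/
theorem flat_of_flat_quot_bot {M : Type u} [AddCommGroup M] [Module A M] (I : Ideal A) (hI : I = ⊥)
    (h : Module.Flat (A ⧸ I) ((A ⧸ I) ⊗[A] M)) : Module.Flat A M := by
  subst hI
  haveI := h
  haveI : Module.Flat A (A ⧸ (⊥ : Ideal A)) :=
    Module.Flat.of_linearEquiv (Submodule.quotEquivOfEqBot (⊥ : Ideal A) rfl)
  haveI : Module.Flat A ((A ⧸ (⊥ : Ideal A)) ⊗[A] M) := Module.Flat.trans A (A ⧸ (⊥ : Ideal A)) _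
  exact Module.Flat.of_linearEquiv
    (((Submodule.quotEquivOfEqBot (⊥ : Ideal A) rfl).rTensor M).trans (TensorProduct.lid A M)).symm

/-- Flatness follows from flatness of the cokernel and injectivity after an injective base change. -/
theorem flat_of_step {F M L : Type u} [AddCommGroup F] [Module A F] [Module.Free A F] [AddCommGroup M] [Module A M]
    [AddCommGroup L] [Module A L] [Module.Flat A L] (α : F →ₗ[A] M) (π : M →ₗ[A] L) (hex : Function.Exact α π)
    (hπ : Function.Surjective π) (A' : Type u) [CommRing A'] [Algebra A A']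
    (hA : Function.Injective (algebraMap A A')) (hinj : Function.Injective (α.lTensor A')) : Module.Flat A M := by
  haveI : Module.Flat (A ⧸ (⊥ : Ideal A)) ((A ⧸ (⊥ : Ideal A)) ⊗[A] L) := inferInstance
  obtain ⟨I, hI, hI'⟩ := ContentIdeal.exists_ideal_step α π hex hπ ⊥
  refine flat_of_flat_quot_bot I (eq_bot_iff.mpr fun a ha => ?_) hI
  have := Ideal.mem_map_of_mem (algebraMap A A') ha
  rw [hI' A' Ideal.map_bot hinj, Ideal.mem_bot] at this
  exact (Ideal.mem_bot).mpr (hA (by rw [this, map_zero]))

variable [IsLocalRing A] [IsSepClosed (ResidueField A)] {S : Type u} [CommRing S] [Algebra A S]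
  {N : Type u} [AddCommGroup N] [Module S N] [Module A N] [IsScalarTower A S N]
  {D : FlatCA.CompleteDevissage A S N (maximalIdeal A)} {q : Ideal S} [q.IsPrime]
  {A' : Type u} [CommRing A'] [IsLocalRing A'] [Algebra A A'] [IsLocalHom (algebraMap A A')]

theorem flat_stage (hA : Function.Injective (algebraMap A A'))
    (DD : FlatCA.CompleteDevissageAt A S N (maximalIdeal A) q D) : ∀ k i, i + k + 1 = D.n →
    (haveI := DevissageFree.tower_A D i; Somewhere A (maximalIdeal A') (DD.qA i) (D.M i)) →
      Module.Flat A (D.M i) := by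
  intro k
  induction k with
  | zero =>
    intro i hi h
    have hi' : i < D.n := by omega
    haveI := DD.hqB
    haveI := DD.hqA
    haveI := DD.overB i
    haveI := DD.overA i
    haveI := D.hp i
    haveI := D.smooth i hi'
    haveI := D.finiteBA i hi'
    haveI := D.finiteM i hi'
    haveI := DevissageFree.free_B D hi'
    haveI : Module.Finite (D.B i) (D.M i) := Module.Finite.trans (D.A i) (D.M i)
    haveI := DevissageFree.tower_A D i
    haveI : Algebra.IsIntegral (D.B i) (D.A i) := Algebra.IsIntegral.of_finite (D.B i) (D.A i)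
    haveI : (DD.qA i).LiesOver (maximalIdeal A) := Ideal.LiesOver.trans (DD.qA i) (DD.qB i) (maximalIdeal A)
    let L := D.M i ⧸ LinearMap.range (D.α i)
    let π : D.M i →ₗ[D.B i] L := (LinearMap.range (D.α i)).mkQ
    have hex : Function.Exact (D.α i) π := LinearMap.exact_iff.mpr (Submodule.ker_mkQ _)
    have hsur : Function.Surjective (D.α i) := by
      obtain rfl : i = D.n - 1 := by omega
      exact D.cokerLast
    haveI : Subsingleton L := Submodule.Quotient.subsingleton_iff.mpr (LinearMap.range_eq_top.mpr hsur)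
    obtain ⟨hinj, -⟩ := step_somewhere (D.geomIrred i hi') (D.α i) (D.fibreIso i hi') (DD.qB i) π
      (Submodule.mkQ_surjective _) hex (h.down (DD.uniq i hi'))
    exact flat_of_step ((D.α i).restrictScalars A) (π.restrictScalars A) hex (Submodule.mkQ_surjective _) A' hA hinj
  | succ k ih =>
    intro i hi h
    have hi' : i < D.n := by omega
    have hi1 : i + 1 < D.n := by omega
    haveI := DD.hqB
    haveI := DD.hqA
    haveI := DD.overB i
    haveI := DD.overA i
    haveI := D.hp i
    haveI := D.smooth i hi'
    haveI := D.finiteBA i hi'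
    haveI := D.finiteM i hi'
    haveI := DevissageFree.free_B D hi'
    haveI : Module.Finite (D.B i) (D.M i) := Module.Finite.trans (D.A i) (D.M i)
    haveI := DevissageFree.tower_A D i
    haveI := DevissageFree.tower_A D (i + 1)
    haveI := FlatLocusDevissage.tower_next D i
    haveI : Algebra.IsIntegral (D.B i) (D.A i) := Algebra.IsIntegral.of_finite (D.B i) (D.A i)
    haveI : (DD.qA i).LiesOver (maximalIdeal A) := Ideal.LiesOver.trans (DD.qA i) (DD.qB i) (maximalIdeal A)
    let π : D.M i →ₗ[D.B i] D.M (i + 1) := (D.isoCoker i hi1).toLinearMap ∘ₗ (LinearMap.range (D.α i)).mkQ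
    have hπ : Function.Surjective π := (D.isoCoker i hi1).surjective.comp (Submodule.mkQ_surjective _)
    have hex : Function.Exact (D.α i) π := LinearMap.exact_iff.mpr (by
      rw [LinearMap.ker_comp, LinearEquiv.ker, Submodule.comap_bot, Submodule.ker_mkQ])
    obtain ⟨hinj, hL⟩ := step_somewhere (D.geomIrred i hi') (D.α i) (D.fibreIso i hi') (DD.qB i) π hπ hex
      (h.down (DD.uniq i hi'))
    haveI := ih (i + 1) (by omega) (hL.up (DD.qStep i hi1))
    exact flat_of_step ((D.α i).restrictScalars A) (π.restrictScalars A) hex hπ A' hA hinj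

/-- **Flatness from flatness at one point above**, along a complete dévissage. -/
theorem flat_of_somewhere (hA : Function.Injective (algebraMap A A'))
    (DD : FlatCA.CompleteDevissageAt A S N (maximalIdeal A) q D) (h : Somewhere A (maximalIdeal A') q N) :
    Module.Flat A N := by
  obtain ⟨m, hm⟩ : ∃ m, D.n = m + 1 := ⟨D.n - 1, by have := D.pos; omega⟩
  haveI := DevissageFree.tower_A D 0
  haveI := DD.hqA
  haveI : IsScalarTower A S (D.M 0) := IsScalarTower.of_algebraMap_smul fun r z => by
    rw [← algebraMap_smul (D.A 0) (algebraMap A S r) z, ← IsScalarTower.algebraMap_apply, algebraMap_smul]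
  let eR : N ≃ₗ[A] D.M 0 := { D.isoN.toAddEquiv with map_smul' := DevissageFree.isoN_smul D }
  haveI := flat_stage hA DD m 0 (by omega) ((h.of_equiv D.isoN).up DD.q0)
  exact Module.Flat.of_linearEquiv eR

end Groth.EGA43Desc
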